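import Mathlib
import Cfsg.Prelude.Def_TwoFusion
import Cfsg.Prelude.Def_Transfer

/-!
# Generic lemmas for the pentad two-local subgroup
-/

set_option autoImplicit false

namespace Cfsg.Agent.Lib.J4Pentad77

open Subgroup
open scoped Pointwise commutatorElement

section General

variable {G : Type*} [Group G] [Finite G]

/-- A `p`-group of automisers leaves as many points fixed modulo `p`. -/
theorem card_modEq_inf_centralizer {p : ℕ} [Fact p.Prime] {Q X : Subgroup G} (hQ : IsPGroup p Q)
    (hn : Q ≤ normalizer (X : Set G)) :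
    Nat.card X ≡ Nat.card ↥(X ⊓ centralizer (Q : Set G)) [MOD p] := by
  letI : MulDistribMulAction ↥Q ↥X := MulDistribMulAction.compHom ↥X (Subgroup.inclusion hn)
  have hsmul : ∀ (q : ↥Q) (x : ↥X), ((q • x : ↥X) : G) = q * x * (q : G)⁻¹ := fun q x => rfl
  refine (hQ.card_modEq_card_fixedPoints ↥X).trans (congrArg (· % p) (Nat.card_congr ?_))
  refine
    { toFun := fun x => ⟨x.1.1, x.1.2, mem_centralizer_iff.2 fun q hq => ?_⟩
      invFun := fun x => ⟨⟨x.1, x.2.1⟩, fun q => Subtype.ext ?_⟩
      left_inv := fun x => rfl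
      right_inv := fun x => rfl }
  · have h := congrArg Subtype.val (x.2 ⟨q, hq⟩)
    rw [hsmul] at h
    exact mul_inv_eq_iff_eq_mul.1 h
  · rw [hsmul]
    exact mul_inv_eq_iff_eq_mul.2 (mem_centralizer_iff.1 x.2.2 q q.2)

/-- The Frattini argument for a subgroup of order `p` when `p²` does not divide the order. -/
theorem exists_mul_mem_normalizer {p : ℕ} [Fact p.Prime] {N P : Subgroup G} (hP : Nat.card P = p)
    (hPN : P ≤ N) (hp2 : ¬ p ^ 2 ∣ Nat.card N) {g : G} (hg : g ∈ normalizer (N : Set G)) :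
    ∃ n ∈ N, n * g ∈ normalizer (P : Set G) := by
  have hidx : ∀ R : Subgroup ↥N, Nat.card R = p → ¬ p ∣ R.index := by
    intro R hR hd
    apply hp2
    rw [← R.card_mul_index, hR, pow_two]
    exact mul_dvd_mul_left p hd
  have hgPN : P.map (MulAut.conj g).toMonoidHom ≤ N := by
    rw [← mem_normalizer_iff_map_conj_eq.1 hg]
    exact map_mono hPN
  have hc1 : Nat.card (P.subgroupOf N) = p := by
    rw [Nat.card_congr (subgroupOfEquivOfLe hPN).toEquiv, hP]
  have hc2 : Nat.card ((P.map (MulAut.conj g).toMonoidHom).subgroupOf N) = p := by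
    rw [Nat.card_congr (subgroupOfEquivOfLe hgPN).toEquiv, Nat.card_congr
      (equivMapOfInjective P _ (MulAut.conj g).injective).toEquiv.symm, hP]
  obtain ⟨n, hn⟩ := MulAction.exists_smul_eq ↥N
    ((IsPGroup.of_card (n := 1) (by rw [hc2, pow_one])).toSylow (hidx _ hc2))
    ((IsPGroup.of_card (n := 1) (by rw [hc1, pow_one])).toSylow (hidx _ hc1))
  refine ⟨n, n.2, mem_normalizer_iff_map_conj_eq.2 (eq_of_le_of_card_ge ?_ ?_)⟩
  · rintro y ⟨x, hx, rfl⟩
    have hmem : MulAut.conj n • (⟨g * x * g⁻¹, hgPN ⟨x, hx, rfl⟩⟩ : ↥N) ∈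
        MulAut.conj n • ((P.map (MulAut.conj g).toMonoidHom).subgroupOf N) :=
      Subgroup.smul_mem_pointwise_smul _ _ _ (mem_subgroupOf.2 (mem_map.2 ⟨x, hx, rfl⟩))
    have hS := congrArg (fun S : Sylow p ↥N => (S : Subgroup ↥N)) hn
    simp only [Sylow.coe_subgroup_smul, IsPGroup.toSylow_coe] at hS
    rw [hS] at hmem
    have hmem' : (n : G) * (g * x * g⁻¹) * (n : G)⁻¹ ∈ P := hmem
    show (n : G) * g * x * ((n : G) * g)⁻¹ ∈ P
    simpa [mul_assoc, mul_inv_rev] using hmem'
  · exact (Nat.card_congr (equivMapOfInjective P _ (MulAut.conj _).injective).toEquiv).le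

/-- Counting along a homomorphism defined on a subgroup. -/
theorem card_eq_image_mul {M K : Subgroup G} (hK : K ≤ M) {X : Type*} [Group X] (f : ↥M →* X) :
    Nat.card K = Nat.card ((K.subgroupOf M).map f) * Nat.card ↥(K ⊓ f.ker.map M.subtype) := by
  have h1 := (f.comp (inclusion hK)).ker.card_mul_index
  rw [index_ker] at h1
  have h2 : (f.comp (inclusion hK)).range = (K.subgroupOf M).map f := by
    ext y
    constructor
    · rintro ⟨k, rfl⟩
      exact ⟨inclusion hK k, mem_subgroupOf.2 k.2, rfl⟩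
    · rintro ⟨m, hm, rfl⟩
      exact ⟨⟨m, mem_subgroupOf.1 hm⟩, congrArg f (Subtype.ext rfl)⟩
  have h3 : (f.comp (inclusion hK)).ker.map K.subtype = K ⊓ f.ker.map M.subtype := by
    ext y
    constructor
    · rintro ⟨k, hk, rfl⟩
      exact ⟨k.2, ⟨inclusion hK k, hk, rfl⟩⟩
    · rintro ⟨hy, m, hm, rfl⟩
      exact ⟨⟨m, hy⟩, (congrArg f (Subtype.ext rfl : inclusion hK ⟨(m : G), hy⟩ = m)).trans hm, rfl⟩
  rw [h2, mul_comm] at h1
  rw [← h3, card_map_of_injective K.subtype_injective]
  exact h1.symm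

/-- A product decomposition: order and the position of elements of order prime to the first factor. -/
theorem idp_facts {Q J S : Subgroup G} (h : Cfsg.IsInternalDirectProduct Q J S) :
    Nat.card S = Nat.card Q * Nat.card J ∧
      ∀ x ∈ S, ∀ n : ℕ, x ^ n = 1 → n.Coprime (Nat.card Q) → x ∈ J := by
  obtain ⟨hQ, hJ, hcomm, hd, hsup⟩ := h
  let f : ↥Q × ↥J →* G := Q.subtype.noncommCoprod J.subtype fun a b => hcomm a a.2 b b.2
  have hrange : f.range = S := by
    apply le_antisymm
    · rintro _ ⟨⟨a, b⟩, rfl⟩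
      exact mul_mem (hQ a.2) (hJ b.2)
    · rw [← hsup, sup_le_iff]
      exact ⟨fun a ha => ⟨(⟨a, ha⟩, 1), mul_one a⟩, fun b hb => ⟨(1, ⟨b, hb⟩), one_mul b⟩⟩
  have hinj : Function.Injective f := by
    rw [injective_iff_map_eq_one]
    rintro ⟨a, b⟩ hab
    have hab' : (a : G) * (b : G) = 1 := hab
    have ha : (a : G) ∈ Q ⊓ J := ⟨a.2, (eq_inv_of_mul_eq_one_left hab').symm ▸ J.inv_mem b.2⟩
    rw [hd, mem_bot] at ha
    rw [ha, one_mul] at hab'
    exact Prod.ext (Subtype.ext ha) (Subtype.ext hab')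
  refine ⟨?_, fun x hx n hn hco => ?_⟩
  · rw [← hrange, ← Nat.card_congr (MonoidHom.ofInjective hinj).toEquiv, Nat.card_prod]
  · rw [← hrange] at hx
    obtain ⟨⟨a, b⟩, rfl⟩ := hx
    rw [← map_pow, map_eq_one_iff f hinj] at hn
    have ha : a ^ n = 1 := congrArg Prod.fst hn
    have ha1 : a = 1 := orderOf_eq_one_iff.1
      (Nat.eq_one_of_dvd_coprimes hco (orderOf_dvd_of_pow_eq_one ha) (orderOf_dvd_natCard a))
    subst ha1
    show ((1 : ↥Q) : G) * (b : G) ∈ J
    simp

/-- Commutators of elements normalising a cyclic subgroup centralise it. -/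
theorem commutator_mem_centralizer {Q : Subgroup G} [IsCyclic ↥Q] {x y : G}
    (hx : x ∈ normalizer (Q : Set G)) (hy : y ∈ normalizer (Q : Set G)) :
    x * y * x⁻¹ * y⁻¹ ∈ centralizer (Q : Set G) := by
  obtain ⟨a, ha⟩ := MonoidHom.map_cyclic (Q.normalizerMonoidHom ⟨x, hx⟩).toMonoidHom
  obtain ⟨b, hb⟩ := MonoidHom.map_cyclic (Q.normalizerMonoidHom ⟨y, hy⟩).toMonoidHom
  have hk : (⟨x, hx⟩ * ⟨y, hy⟩ * (⟨x, hx⟩)⁻¹ * (⟨y, hy⟩)⁻¹ : ↥(normalizer (Q : Set G))) ∈
      Q.normalizerMonoidHom.ker := by
    rw [MonoidHom.mem_ker, map_mul, map_mul, map_mul, map_inv, map_inv, mul_inv_eq_one,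
      mul_inv_eq_iff_eq_mul]
    refine MulEquiv.ext fun q => ?_
    have ha' : ∀ g, Q.normalizerMonoidHom ⟨x, hx⟩ g = g ^ a := ha
    have hb' : ∀ g, Q.normalizerMonoidHom ⟨y, hy⟩ g = g ^ b := hb
    rw [MulAut.mul_apply, MulAut.mul_apply, hb', ha', hb', ha', ← zpow_mul, ← zpow_mul, mul_comm]
  rw [normalizerMonoidHom_ker] at hk
  exact hk

/-- Characteristic subgroups are invariant under the normalizer. -/
theorem normalizer_le_normalizer_char {L : Subgroup G} (W : Subgroup ↥L) [W.Characteristic] :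
    normalizer (L : Set G) ≤ normalizer ((W.map L.subtype : Subgroup G) : Set G) := by
  intro g hg
  rw [mem_normalizer_iff_map_conj_eq]
  have h := Subgroup.characteristic_iff_map_eq.1 (inferInstance : W.Characteristic)
    (L.normalizerMonoidHom ⟨g, hg⟩)
  conv_rhs => rw [← h]
  rw [map_map, map_map]
  rfl

end General

section Simple

variable {A : Type*} [Group A] [Finite A]

/-- In a simple group of order 168 the normalizer of a subgroup of order seven has order 21. -/
theorem card_normalizer_seven [IsSimpleGroup A] (hA : Nat.card A = 168) {T : Subgroup A}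
    (hT : Nat.card T = 7) : Nat.card ↥(normalizer (T : Set A)) = 21 := by
  haveI : Fact (Nat.Prime 7) := ⟨by norm_num⟩
  have hi : T.index = 24 := by
    have h := T.card_mul_index
    rw [hT, hA] at h
    omega
  let P := (IsPGroup.of_card (n := 1) (by rw [hT, pow_one]) : IsPGroup 7 ↥T).toSylow
    (by rw [hi]; norm_num)
  have h1 := card_sylow_modEq_one (p := 7) (G := A)
  have h2 : Nat.card (Sylow 7 A) = (normalizer (T : Set A)).index := P.card_eq_index_normalizer
  have h3 : (normalizer (T : Set A)).index ∣ 24 := hi ▸ index_dvd_of_le le_normalizer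
  have h4 := (normalizer (T : Set A)).card_mul_index
  rw [h2] at h1
  have hne : (normalizer (T : Set A)).index ≠ 1 := by
    intro h
    haveI : T.Normal := normalizer_eq_top_iff.1 (index_eq_one.1 h)
    rcases ‹T.Normal›.eq_bot_or_eq_top with e | e
    · rw [e, card_bot] at hT; omega
    · rw [e, card_top, hA] at hT; omega
  have hle : (normalizer (T : Set A)).index ≤ 24 := Nat.le_of_dvd (by norm_num) h3
  unfold Nat.ModEq at h1
  have h8 : (normalizer (T : Set A)).index = 8 := by
    interval_cases hh : (normalizer (T : Set A)).index <;> omega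
  rw [h8, hA] at h4
  omega

/-- A subgroup containing all commutators of a simple group of composite order is everything. -/
theorem eq_top_of_commutators [IsSimpleGroup A] (hA : ¬ (Nat.card A).Prime) {H : Subgroup A}
    (h : ∀ x y : A, x * y * x⁻¹ * y⁻¹ ∈ H) : H = ⊤ := by
  have hne : commutator A ≠ ⊥ := by
    intro hb
    apply hA
    letI : CommGroup A :=
      { (inferInstance : Group A) with
        mul_comm := fun x y => by
          have hm : ⁅x, y⁆ ∈ commutator A := _root_.commutator_def A ▸ commutator_mem_commutator (mem_top x) (mem_top y)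
          rw [hb, mem_bot, commutatorElement_eq_one_iff_mul_comm] at hm
          exact hm }
    exact IsSimpleGroup.prime_card
  have hn : (commutator A).Normal := inferInstance
  rw [eq_top_iff, ← hn.eq_bot_or_eq_top.resolve_left hne, _root_.commutator_def, Subgroup.commutator_le]
  intro x _ y _
  exact h x y

/-- In `Perm (Fin 5)` a subgroup with order divisible by 60 containing a subgroup of order 20 is
everything. -/
theorem perm_five_eq_top {H K : Subgroup (Equiv.Perm (Fin 5))} (hK : Nat.card K = 20) (hKH : K ≤ H)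
    (h3 : 60 ∣ Nat.card H) : H = ⊤ := by
  have hc : Nat.card (Equiv.Perm (Fin 5)) = 120 := by rw [Nat.card_perm, Nat.card_fin]; rfl
  have h := H.card_mul_index
  rw [hc] at h
  obtain ⟨c, hcc⟩ := h3
  have hi : H.index = 1 ∨ H.index = 2 := by
    rw [hcc] at h
    have hd : H.index ∣ 2 := ⟨c, by rw [mul_assoc, mul_comm c] at h; omega⟩
    exact (Nat.dvd_prime Nat.prime_two).1 hd
  rcases hi with hi | hi
  · exact index_eq_one.1 hi
  · exfalso
    have hA : H = alternatingGroup (Fin 5) := Equiv.Perm.eq_alternatingGroup_of_index_eq_two hi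
    subst hA
    have hA60 : Nat.card (alternatingGroup (Fin 5)) = 60 := by
      rw [nat_card_alternatingGroup, Nat.card_fin]; rfl
    let K' := K.subgroupOf (alternatingGroup (Fin 5))
    have hK' : K'.index = 3 := by
      have h' := K'.card_mul_index
      rw [Nat.card_congr (subgroupOfEquivOfLe hKH).toEquiv, hK, hA60] at h'
      omega
    have hcore : K'.normalCore = ⊥ := by
      rcases K'.normalCore_normal.eq_bot_or_eq_top with e | e
      · exact e
      · have := index_dvd_of_le K'.normalCore_le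
        rw [e, index_top, hK'] at this
        omega
    rw [normalCore_eq_ker, MonoidHom.ker_eq_bot_iff] at hcore
    have hle := Nat.card_le_card_of_injective _ hcore
    rw [hA60, Nat.card_perm, ← index_eq_card, hK'] at hle
    exact absurd hle (by decide)

end Simple

end Cfsg.Agent.Lib.J4Pentad77
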