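import Cfsg.Agent.Lib.J4Two56.ModelFacts
import Cfsg.Agent.Lib.Golay.Perm
import Cfsg.Agent.Lib.J4Pentad77.CertData

/-!
# A group of order 168 in `M₂₄` acting faithfully on eight classes of the cocode
-/

set_option autoImplicit false

namespace Cfsg.Agent.Lib.J4Pentad77

open Cfsg Cfsg.Agent.Lib Cfsg.Agent.Lib.J4Two56
open scoped Pointwise

/-- The numbers of the classes over the four vectors of the chosen point. -/
def zCodes : List ℕ := [0, 1, 10, 11, 20, 21, 30, 31]

theorem zCodes_lt {n : ℕ} (hn : n ∈ zCodes) : n < 128 := by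
  have : ∀ m ∈ zCodes, m < 128 := by decide +kernel
  exact this n hn

theorem zCodes_xor {a b : ℕ} (ha : a ∈ zCodes) (hb : b ∈ zCodes) : a ^^^ b ∈ zCodes := by
  have : ∀ a ∈ zCodes, ∀ b ∈ zCodes, a ^^^ b ∈ zCodes := by decide +kernel
  exact this a ha b hb

/-- The action of an image list on the numbers. -/
def actL (l : List ℕ) (n : ℕ) : ℕ :=
  (List.range 11).foldr (fun k r => (if n.testBit k then
    (repList.getD k []).foldr (fun i s => cdList.getD (Golay.applyNum l i) 0 ^^^ s) 0 else 0) ^^^ r) 0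

theorem rep_lt : ∀ k, k < 11 → ∀ i ∈ repList.getD k [], i < 24 := by decide +kernel

theorem act_toPerm {l : List ℕ} (h : Golay.validList l = true) (n : ℕ) :
    act (Golay.toPerm l) n = actL l n := by
  have key : ∀ r : List ℕ, (∀ i ∈ r, i < 24) → imgSum (Golay.toPerm l) r =
      r.foldr (fun i s => cdList.getD (Golay.applyNum l i) 0 ^^^ s) 0 := by
    intro r hr
    induction r with
    | nil => rfl
    | cons i r ih =>
      have ih' := ih fun j hj => hr j (List.mem_cons_of_mem _ hj)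
      simp only [imgSum, List.foldr_cons] at ih' ⊢
      rw [ih', cd, Golay.idx_toPerm h, Golay.idx_ptN (hr i (List.mem_cons_self ..))]
  unfold act actL
  have hks : ∀ ks : List ℕ, (∀ k ∈ ks, k < 11) →
      ks.foldr (fun k r => (if n.testBit k then imgSum (Golay.toPerm l) (repList.getD k []) else 0) ^^^ r) 0 =
      ks.foldr (fun k r => (if n.testBit k then
        (repList.getD k []).foldr (fun i s => cdList.getD (Golay.applyNum l i) 0 ^^^ s) 0 else 0) ^^^ r) 0 := by
    intro ks hks
    induction ks with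
    | nil => rfl
    | cons k ks ih =>
      simp only [List.foldr_cons]
      rw [ih fun j hj => hks j (List.mem_cons_of_mem _ hj), key _ (rep_lt k (hks k (List.mem_cons_self ..)))]
  exact hks _ fun k hk => List.mem_range.1 hk

/-- An element of the list. -/
def elemAt (i : ℕ) : List ℕ := Data.elems.getD i []

/-- A generator. -/
def genAt (i : ℕ) : List ℕ := Data.gens.getD i []

theorem check_mem : ∀ i, i < 2 → Golay.inM24 (genAt i) = true := by decide +kernel

theorem check_valid : ∀ i, i < 168 → Golay.validList (elemAt i) = true := by decide +kernel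

theorem check_one : elemAt 0 = List.range 24 := by decide +kernel

theorem check_parent : ∀ i, i < 168 → i ≠ 0 → (Data.parents.getD i (0, 0)).1 < 2 ∧
    (Data.parents.getD i (0, 0)).2 < i ∧
    elemAt i = Golay.compList (genAt (Data.parents.getD i (0, 0)).1) (elemAt (Data.parents.getD i (0, 0)).2) := by
  decide +kernel

theorem check_succ : ∀ g, g < 2 → ∀ i, i < 168 → ((Data.succ.getD g []).getD i 0) < 168 ∧
    Golay.compList (genAt g) (elemAt i) = elemAt ((Data.succ.getD g []).getD i 0) := by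
  decide +kernel

theorem check_stab : ∀ i, i < 168 → ∀ n ∈ zCodes, actL (elemAt i) n ∈ zCodes := by decide +kernel

theorem check_faithful :
    ((List.range 168).map fun i => (actL (elemAt i) 1, actL (elemAt i) 10, actL (elemAt i) 20)).Nodup := by
  decide +kernel

theorem check_trans : ∀ n ∈ zCodes, n ≠ 0 → ∀ m ∈ zCodes, m ≠ 0 →
    ((List.range 168).any fun i => actL (elemAt i) n == m) = true := by decide +kernel

/-- The permutation of a position in the list. -/
noncomputable def permAt (i : ℕ) : Equiv.Perm GolayPt := Golay.toPerm (elemAt i)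

theorem gen_mem (g : ℕ) (hg : g < 2) : Golay.toPerm (genAt g) ∈ Cfsg.M24 :=
  Golay.toPerm_mem_M24 (check_mem g hg)

theorem permAt_zero : permAt 0 = 1 := by
  rw [permAt, Golay.toPerm_eq_iff (check_valid 0 (by norm_num))]
  intro i
  rw [check_one, Equiv.Perm.one_apply, Golay.idx_pt, Golay.applyNum]
  simp [List.getD_eq_getElem?_getD, i.isLt, Nat.mod_eq_of_lt i.isLt]

theorem permAt_succ (g : ℕ) (hg : g < 2) (i : ℕ) (hi : i < 168) :
    ∃ j, j < 168 ∧ Golay.toPerm (genAt g) * permAt i = permAt j := by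
  obtain ⟨hj, he⟩ := check_succ g hg i hi
  refine ⟨_, hj, ?_⟩
  rw [permAt, permAt, ← he, Golay.toPerm_mul (Golay.inM24.valid (check_mem g hg)) (check_valid i hi)
    (he ▸ check_valid _ hj)]

theorem permAt_mem : ∀ k, k < 168 → permAt k ∈ Cfsg.M24 := by
  intro k
  induction k using Nat.strong_induction_on with
  | _ k ih =>
    intro hk
    by_cases h0 : k = 0
    · subst h0; rw [permAt_zero]; exact one_mem _
    obtain ⟨hg, hp, he⟩ := check_parent k hk h0
    rw [permAt, he, Golay.toPerm_mul (Golay.inM24.valid (check_mem _ hg)) (check_valid _ (hp.trans hk))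
      (he ▸ check_valid k hk)]
    exact mul_mem (gen_mem _ hg) (ih _ hp (hp.trans hk))

/-- The subgroup generated by the two permutations. -/
noncomputable def trioGrp : Subgroup ↥Cfsg.M24 :=
  Subgroup.closure {⟨_, gen_mem 0 (by norm_num)⟩, ⟨_, gen_mem 1 (by norm_num)⟩}

theorem mem_trioGrp_iff (σ : ↥Cfsg.M24) :
    σ ∈ trioGrp ↔ ∃ i, i < 168 ∧ (σ : Equiv.Perm GolayPt) = permAt i := by
  have hgen : ∀ g, g < 2 → ∃ h : Golay.toPerm (genAt g) ∈ Cfsg.M24,
      (⟨_, h⟩ : ↥Cfsg.M24) ∈ trioGrp := by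
    intro g hg
    refine ⟨gen_mem g hg, Subgroup.subset_closure ?_⟩
    rcases (by omega : g = 0 ∨ g = 1) with rfl | rfl
    · exact Or.inl rfl
    · exact Or.inr rfl
  constructor
  · intro h
    have h' : σ ∈ Submonoid.closure ({⟨_, gen_mem 0 (by norm_num)⟩, ⟨_, gen_mem 1 (by norm_num)⟩} :
        Set ↥Cfsg.M24) := by
      rw [← Subgroup.closure_toSubmonoid_of_finite]
      exact h
    induction h' using Submonoid.closure_induction_left with
    | one => exact ⟨0, by norm_num, permAt_zero.symm⟩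
    | mul_left x hx y hy ih =>
      obtain ⟨i, hi, e⟩ := ih (Subgroup.closure_toSubmonoid_of_finite.ge hy)
      rcases hx with rfl | rfl
      · obtain ⟨j, hj, e'⟩ := permAt_succ 0 (by norm_num) i hi
        exact ⟨j, hj, by rw [Subgroup.coe_mul, e, e']⟩
      · obtain ⟨j, hj, e'⟩ := permAt_succ 1 (by norm_num) i hi
        exact ⟨j, hj, by rw [Subgroup.coe_mul, e, e']⟩
  · rintro ⟨i, hi, e⟩
    induction i using Nat.strong_induction_on generalizing σ with
    | _ i ih =>
      by_cases h0 : i = 0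
      · subst h0
        rw [show σ = 1 from Subtype.ext (e.trans permAt_zero)]
        exact one_mem _
      obtain ⟨hg, hp, he⟩ := check_parent i hi h0
      obtain ⟨hm, hmem⟩ := hgen _ hg
      have hmul : permAt i = Golay.toPerm (genAt (Data.parents.getD i (0, 0)).1) *
          permAt (Data.parents.getD i (0, 0)).2 := by
        rw [permAt, he, Golay.toPerm_mul (Golay.inM24.valid (check_mem _ hg)) (check_valid _ (hp.trans hi))
          (he ▸ check_valid i hi), permAt]
      have hτ : permAt (Data.parents.getD i (0, 0)).2 ∈ Cfsg.M24 := by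
        rw [show permAt (Data.parents.getD i (0, 0)).2 =
          (Golay.toPerm (genAt (Data.parents.getD i (0, 0)).1))⁻¹ * permAt i by rw [hmul, inv_mul_cancel_left]]
        exact mul_mem (inv_mem hm) (e ▸ σ.2)
      have := mul_mem hmem (ih _ hp ⟨_, hτ⟩ (hp.trans hi) rfl)
      rwa [show σ = ⟨_, hm⟩ * ⟨_, hτ⟩ from Subtype.ext (e.trans hmul)]

theorem act_permAt {i : ℕ} (hi : i < 168) (n : ℕ) : act (permAt i) n = actL (elemAt i) n :=
  act_toPerm (check_valid i hi) n

theorem trioGrp_stab {σ : ↥Cfsg.M24} (hσ : σ ∈ trioGrp) {n : ℕ} (hn : n ∈ zCodes) :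
    act (σ : Equiv.Perm GolayPt) n ∈ zCodes := by
  obtain ⟨i, hi, e⟩ := (mem_trioGrp_iff σ).1 hσ
  rw [e, act_permAt hi]
  exact check_stab i hi n hn

theorem trioGrp_faithful {σ τ : ↥Cfsg.M24} (hσ : σ ∈ trioGrp) (hτ : τ ∈ trioGrp)
    (h : ∀ n ∈ zCodes, act (σ : Equiv.Perm GolayPt) n = act (τ : Equiv.Perm GolayPt) n) : σ = τ := by
  obtain ⟨i, hi, e⟩ := (mem_trioGrp_iff σ).1 hσ
  obtain ⟨j, hj, e'⟩ := (mem_trioGrp_iff τ).1 hτ
  have h' : ∀ n ∈ zCodes, actL (elemAt i) n = actL (elemAt j) n := fun n hn => by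
    rw [← act_permAt hi, ← act_permAt hj, ← e, ← e', h n hn]
  have hij : i = j := List.inj_on_of_nodup_map check_faithful (List.mem_range.2 hi) (List.mem_range.2 hj) (by
    simp only [h' 1 (by decide), h' 10 (by decide), h' 20 (by decide)])
  exact Subtype.ext (by rw [e, e', hij])

theorem card_trioGrp : Nat.card ↥trioGrp = 168 := by
  have hm : ∀ i : Fin 168, ∃ h : permAt i ∈ Cfsg.M24, (⟨_, h⟩ : ↥Cfsg.M24) ∈ trioGrp := by
    intro i
    exact ⟨permAt_mem i i.isLt, (mem_trioGrp_iff _).2 ⟨i, i.isLt, rfl⟩⟩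
  let f : Fin 168 → ↥trioGrp := fun i => ⟨⟨_, (hm i).choose⟩, (hm i).choose_spec⟩
  have hf : Function.Bijective f := by
    constructor
    · intro i j h
      have h' : permAt i = permAt j := congrArg (fun x : ↥trioGrp => ((x : ↥Cfsg.M24) : Equiv.Perm GolayPt)) h
      refine Fin.ext (List.inj_on_of_nodup_map check_faithful (List.mem_range.2 i.isLt)
        (List.mem_range.2 j.isLt) ?_)
      simp only [← act_permAt i.isLt, ← act_permAt j.isLt, h']
    · rintro ⟨σ, hσ⟩
      obtain ⟨i, hi, e⟩ := (mem_trioGrp_iff σ).1 hσ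
      exact ⟨⟨i, hi⟩, Subtype.ext (Subtype.ext e.symm)⟩
  rw [← Nat.card_eq_of_bijective f hf, Nat.card_eq_fintype_card, Fintype.card_fin]

theorem trioGrp_trans {n m : ℕ} (hn : n ∈ zCodes) (hn0 : n ≠ 0) (hm : m ∈ zCodes) (hm0 : m ≠ 0) :
    ∃ σ ∈ trioGrp, act ((σ : ↥Cfsg.M24) : Equiv.Perm GolayPt) n = m := by
  obtain ⟨i, hi, h⟩ := List.any_eq_true.1 (check_trans n hn hn0 m hm hm0)
  rw [List.mem_range] at hi
  rw [beq_iff_eq] at h
  obtain ⟨σ, hσ, e⟩ : ∃ σ ∈ trioGrp, ((σ : ↥Cfsg.M24) : Equiv.Perm GolayPt) = permAt i := by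
    exact ⟨⟨_, permAt_mem i hi⟩, (mem_trioGrp_iff _).2 ⟨i, hi, rfl⟩, rfl⟩
  exact ⟨σ, hσ, by rw [e, act_permAt hi, h]⟩

end Cfsg.Agent.Lib.J4Pentad77
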