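import Cfsg.Agent.Lib.J4Pentad77.CountSpec
import Cfsg.Agent.Lib.J4Two56.QuadBound

/-!
# Five planes through a point off the hyperoval

The squaring map has 2080 zeros on the module, all of them covered by the 77 planes; in every plane the
18 vectors of the hyperoval lie in no other plane and the 45 others form part of one orbit.
-/

set_option autoImplicit false

universe u

namespace Cfsg.Agent.Lib.J4Pentad77

open Cfsg Cfsg.Agent.Lib.J4Type19 Cfsg.Agent.Lib.J4Two56
open scoped Classical

attribute [local instance] m22_finite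

/-- One step of the closure of coded points under the generators. -/
def reachStep (l : List ℕ) : List ℕ := l ++ (List.range 4).flatMap fun k => l.map (pmap k)

/-- Points reached from the coded point of `5`. -/
def reached : ℕ → List ℕ
  | 0 => [pnt 5]
  | n + 1 => (reachStep (reached n)).eraseDups

theorem hy_five : isHy 5 = false := by decide +kernel

theorem hy_count : ((Finset.range 64).filter fun a => a ≠ 0 ∧ isHy a = true).card = 18 := by decide +kernel

theorem reached_cover : ((List.range 64).all fun a =>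
    Nat.beq a 0 || isHy a || (reached 8).contains (pnt a)) = true := by decide +kernel

theorem pnt_fibre : ((List.range 64).all fun a => (List.range 64).all fun b =>
    !Nat.beq (pnt b) (pnt a) || Nat.beq b a || Nat.beq b (sc 2 a) || Nat.beq b (sc 2 (sc 2 a))) = true := by
  decide +kernel

theorem sc_two_lt : ((List.range 64).all fun a => Nat.blt (sc 2 a) 64) = true := by decide +kernel

theorem pnt_reach : ((List.range 64).all fun a => (List.range 4).all fun k =>
    Nat.beq (pmap k (pnt a)) (pmap k a) && Nat.blt (pnt a) 64 && Nat.beq (pnt (pnt a)) (pnt a)) = true := by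
  decide +kernel

variable {G : Type u} [Group G] [Finite G] {z : G} {P : Subgroup G} (D : HData z P)

/-- A vector over an involution or the identity. -/
def Sing (w : cV z) : Prop := ∃ e : ↥(cE z), mk e = w ∧ (e : G) * e = 1

theorem sq_congr_mk {e f : ↥(cE z)} (hJ : IsOfJankoFourTypeWith z P) (h : mk e = mk f) :
    (f : G) * f = (e : G) * e := by
  have hc : z * (e : G) = (e : G) * z := (Subgroup.mem_centralizer_singleton_iff.1 (cE_le z e.2)).symm
  rcases (mk_eq hJ).1 h with h | h
  · rw [h]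
  · rw [h, mul_assoc, ← mul_assoc z, hc, mul_assoc (e : G) z z, z_sq hJ, mul_one]

include D in
theorem sing_iff {e : ↥(cE z)} : Sing (mk e) ↔ (e : G) * e = 1 := by
  refine ⟨fun ⟨f, hf, h⟩ => ?_, fun h => ⟨e, rfl, h⟩⟩
  rwa [sq_congr_mk D.hJ hf]

theorem sing_add {v d : cV z} (hd : Sing d) :
    (D.toJMod.β v d = 0 → (Sing (v + d) ↔ Sing v)) ∧ (D.toJMod.β v d ≠ 0 → (Sing (v + d) ↔ ¬ Sing v)) := by
  obtain ⟨e, rfl⟩ := mk_surjective v
  obtain ⟨f, rfl, hf⟩ := hd
  have hb : D.toJMod.β (mk e) (mk f) = pair e f := rfl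
  rw [hb, ← mk_mul, sing_iff D, sing_iff D, Subgroup.coe_mul, Ne, pair_eq_zero]
  constructor
  · intro hc
    have hc' : (e : G) * f = f * e := congrArg Subtype.val hc.eq
    rw [show (e : G) * f * (e * f) = e * (f * e) * f by group, ← hc',
      show (e : G) * (e * f) * f = e * e * (f * f) by group, hf, mul_one]
  · intro hc
    have hz : z * (f : G) = f * z := (Subgroup.mem_centralizer_singleton_iff.1 (cE_le z f.2)).symm
    rcases comm_or D.hJ f e with h | h
    · refine absurd ?_ hc
      rw [mul_inv_eq_one, mul_inv_eq_iff_eq_mul] at h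
      exact (Subtype.ext h : f * e = e * f).symm
    have hfe : (f : G) * e = z * (e * f) := by
      rw [mul_inv_eq_iff_eq_mul, mul_inv_eq_iff_eq_mul] at h
      rw [h, mul_assoc]
    have hze : z * (e : G) = e * z := (Subgroup.mem_centralizer_singleton_iff.1 (cE_le z e.2)).symm
    have hsq : (e : G) * f * (e * f) = z * (e * e) := by
      rw [show (e : G) * f * (e * f) = e * (f * e) * f by group, hfe,
        show (e : G) * (z * (e * f)) * f = (e * z) * e * (f * f) by group, hf, mul_one, ← hze, mul_assoc]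
    rw [hsq]
    rcases sq_or D.hJ e with h2 | h2
    · rw [h2, mul_one]; simp [z_ne D.hJ]
    · rw [h2, z_sq D.hJ]; simp [z_ne D.hJ]

theorem sing_of_fix {F : MFacts M22t} (L : Lifts D.toJMod F) {U : Subgroup M22t} (hU : D.toJMod.Good U)
    {w : cV z} (hw : w ∈ D.toJMod.fix U) : Sing w := by
  obtain ⟨e, rfl⟩ := mk_surjective w
  exact ⟨e, rfl, (D.good_pre_sq L hU hw).1⟩

/-- The squaring map has exactly 2080 zeros. -/
theorem card_sing {F : MFacts M22t} (L : Lifts D.toJMod F) [Fintype (cV z)] :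
    ((Finset.univ : Finset (cV z)).filter fun w => Sing w).card = 2080 := by
  obtain ⟨S, hS⟩ : ∃ S : AddSubgroup (cV z), S = D.toJMod.fix F.U0 := ⟨_, rfl⟩
  have hgood := D.toJMod.good_fix L (D.toJMod.good_U0 L)
  have hperp : perpOf D.toJMod.β S = S := hS ▸ D.toJMod.perp_self hgood.1 hgood.2
  obtain ⟨T, hT⟩ : ∃ T : Finset (cV z), T = Finset.univ.filter (fun d => d ∈ S) := ⟨_, rfl⟩
  have hTm : ∀ d, d ∈ T ↔ d ∈ S := fun d => by simp [hT]
  have hTc : T.card = 64 := by
    have h := hgood.1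
    rw [Nat.card_eq_fintype_card, Fintype.card_subtype] at h
    rw [hT, hS]
    rw [show (2 : ℕ) ^ 6 = 64 by norm_num] at h
    convert h using 3
  obtain ⟨f, hfdef⟩ : ∃ f : cV z → ℤ, f = fun w => if Sing w then 1 else -1 := ⟨_, rfl⟩
  have hshift : ∀ v, ∀ d ∈ T, f (v + d) = f v * quadSign (D.toJMod.β v d) := by
    intro v d hd
    obtain ⟨h0, h1⟩ := sing_add D (v := v) (sing_of_fix D L (D.toJMod.good_U0 L) (hS ▸ (hTm d).1 hd))
    subst hfdef
    by_cases hb : D.toJMod.β v d = 0
    · simp [quadSign, hb, h0 hb]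
    · by_cases hv : Sing v
      · simp [quadSign, hb, h1 hb, hv]
      · simp [quadSign, hb, h1 hb, hv]
  have hsum : ∀ v, ∑ d ∈ T, quadSign (D.toJMod.β v d) = if v ∈ S then 64 else 0 := by
    intro v
    by_cases hv : v ∈ S
    · rw [if_pos hv, Finset.sum_congr rfl fun d hd => show quadSign (D.toJMod.β v d) = 1 by
        rw [← hperp] at hv; rw [hv d ((hTm d).1 hd)]; rfl]
      simp [hTc]
    · rw [if_neg hv]
      obtain ⟨d₀, hd₀, hb⟩ : ∃ d ∈ S, D.toJMod.β v d ≠ 0 := by
        by_contra hc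
        push Not at hc
        exact hv (hperp ▸ hc)
      have hb1 : D.toJMod.β v d₀ = 1 := by
        generalize D.toJMod.β v d₀ = a at hb ⊢
        revert hb; revert a; decide
      have e1 : ∑ d ∈ T, quadSign (D.toJMod.β v d) = ∑ d ∈ T, quadSign (D.toJMod.β v (d + d₀)) :=
        Finset.sum_equiv (Equiv.addRight d₀) (fun d => by
          simp only [hTm, Equiv.coe_addRight]
          exact ⟨fun h => add_mem h hd₀, fun h => by simpa using sub_mem h hd₀⟩) (fun d _ => by
          simp [add_assoc, D.toJMod.two d₀])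
      have e2 : ∀ d, quadSign (D.toJMod.β v (d + d₀)) = - quadSign (D.toJMod.β v d) := fun d => by
        rw [map_add, quadSign_add, hb1]
        show quadSign (D.toJMod.β v d) * (-1) = _
        ring
      rw [Finset.sum_congr rfl fun d _ => e2 d, Finset.sum_neg_distrib] at e1
      linarith
  have hkey : 64 * ∑ w, f w = 64 * 64 := by
    calc (64 : ℤ) * ∑ w, f w = ∑ d ∈ T, ∑ v, f (v + d) := by
          rw [Finset.sum_congr rfl fun d _ => (show ∑ v, f (v + d) = ∑ v, f v from Equiv.sum_comp (Equiv.addRight d) f),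
            Finset.sum_const, hTc, nsmul_eq_mul]
          norm_num
      _ = ∑ v, ∑ d ∈ T, f v * quadSign (D.toJMod.β v d) := by
          rw [Finset.sum_comm]
          exact Finset.sum_congr rfl fun v _ => Finset.sum_congr rfl fun d hd => hshift v d hd
      _ = ∑ v, if v ∈ S then (64 : ℤ) else 0 := by
          refine Finset.sum_congr rfl fun v _ => ?_
          rw [← Finset.mul_sum, hsum v]
          split
          · next hv => simp [hfdef, sing_of_fix D L (D.toJMod.good_U0 L) (hS ▸ hv)]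
          · simp
      _ = 64 * 64 := by
          rw [← Finset.sum_filter, ← hT]
          simp [hTc]
  have h1 := Finset.card_filter_add_card_filter_not (s := (Finset.univ : Finset (cV z))) (fun w => Sing w)
  rw [Finset.card_univ, ← Nat.card_eq_fintype_card, D.toJMod.cardV] at h1
  have h2 : ∑ w, f w = ((Finset.univ.filter fun w : cV z => Sing w).card : ℤ) -
      ((Finset.univ.filter fun w : cV z => ¬ Sing w).card : ℤ) := by
    rw [hfdef, Finset.sum_ite]
    simp [sub_eq_add_neg]
  omega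

theorem planesAt_le {F : MFacts M22t} (L : Lifts D.toJMod F) (c : ↥(cC z P)) (w : cV z) :
    (planesAt D w).ncard ≤ (planesAt D (c • w)).ncard := by
  refine Set.ncard_le_ncard_of_injOn (fun U => U.map (MulAut.conj (D.π c)).toMonoidHom) ?_
    (fun U _ U' _ h => Subgroup.map_injective (MulAut.conj (D.π c)).injective h) (Set.toFinite _)
  rintro U ⟨hU, hw⟩
  refine ⟨D.toJMod.good_map L hU c, D.toJMod.mem_fix_smul (U := U) ?_ hw⟩
  rintro _ ⟨x, hx, rfl⟩
  show (D.π c)⁻¹ * (D.π c * x * (D.π c)⁻¹) * D.π c ∈ U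
  simpa [mul_assoc] using hx

/-- The count. -/
theorem count (hP : J4Two56.PlanesStmt.{u}) : CountStmt.{u} := by
  intro G _ _ z P D X L f
  have := D.toJMod.finiteV
  let := Fintype.ofFinite (cV z)
  obtain ⟨hP1, -, hP3⟩ := hP G z P D X L f
  have hc0 : ∀ j : Fin 77, ∃ c : ↥(cC z P), D.π c = X.pl j := fun j => D.πsurj _
  choose c hc using hc0
  have hgood : ∀ j : Fin 77, D.toJMod.Good (conjSub (X.pl j) X.F.U0) := fun j => by
    rw [← hc j]; exact D.toJMod.good_map L (D.toJMod.good_U0 L) (c j)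
  have hmem : ∀ (j : Fin 77) (w : cV z),
      w ∈ D.toJMod.fix (conjSub (X.pl j) X.F.U0) ↔ (c j)⁻¹ • w ∈ D.toJMod.fix X.F.U0 := by
    intro j w
    constructor
    · intro hw
      refine D.toJMod.mem_fix_smul (g := (c j)⁻¹) (fun x hx => ?_) hw
      refine ⟨x, hx, ?_⟩
      show X.pl j * x * (X.pl j)⁻¹ = _
      rw [show D.toJMod.π (c j)⁻¹ = (X.pl j)⁻¹ by rw [map_inv]; exact congrArg _ (hc j), inv_inv]
    · intro hw
      rw [← smul_inv_smul (c j) w]
      refine D.toJMod.mem_fix_smul (g := c j) (fun x hx => ?_) hw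
      obtain ⟨y, hy, rfl⟩ := hx
      show (D.π (c j))⁻¹ * (X.pl j * y * (X.pl j)⁻¹) * D.π (c j) ∈ X.F.U0
      rw [hc j]
      simpa [mul_assoc] using hy
  have hall : ∀ U : Subgroup M22t, D.toJMod.Good U → ∃ j : Fin 77, conjSub (X.pl j) X.F.U0 = U := by
    intro U hU
    obtain ⟨m, -, hm⟩ := D.toJMod.good_conj L hU (S := U)
      (IsPGroup.of_card (n := 4) (by rw [hU.1]; norm_num)) le_rfl
    obtain ⟨j, hj, he⟩ := X.planes m⁻¹
    refine ⟨⟨j, hj⟩, he.symm.trans ?_⟩
    rw [conjSub, ← hm, Subgroup.map_map]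
    ext x
    rw [Subgroup.mem_map]
    exact ⟨fun ⟨y, hy, e⟩ => by simp [mul_assoc] at e; exact e ▸ hy, fun hx => ⟨x, hx, by simp [mul_assoc]⟩⟩
  obtain ⟨m, hm⟩ : ∃ m : cV z → ℕ, m = fun w =>
      (Finset.univ.filter fun j : Fin 77 => w ∈ D.toJMod.fix (conjSub (X.pl j) X.F.U0)).card := ⟨_, rfl⟩
  have hncard : ∀ w, (planesAt D w).ncard = m w := by
    intro w
    have : planesAt D w = (fun j : Fin 77 => conjSub (X.pl j) X.F.U0) ''
        ↑(Finset.univ.filter fun j : Fin 77 => w ∈ D.toJMod.fix (conjSub (X.pl j) X.F.U0)) := by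
      ext U
      simp only [Set.mem_image, Finset.coe_filter, Finset.mem_univ, true_and, Set.mem_setOf_eq, planesAt]
      constructor
      · rintro ⟨hU, hw⟩
        obtain ⟨j, rfl⟩ := hall U hU
        exact ⟨j, hw, rfl⟩
      · rintro ⟨j, hw, rfl⟩
        exact ⟨hgood j, hw⟩
    rw [this, Set.ncard_image_of_injective _ fun i j h => Fin.ext (X.planes_inj i i.2 j j.2 h),
      Set.ncard_coe_finset, hm]
  have hinv : ∀ (g : ↥(cC z P)) (w : cV z), m (g • w) = m w := fun g w => by
    have h1 := planesAt_le D L g w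
    have h2 := planesAt_le D L g⁻¹ (g • w)
    rw [inv_smul_smul] at h2
    rw [← hncard, ← hncard]; omega
  have hzero : f.vec 0 = 0 := by
    have h := f.vec_xor 0 (by omega) 0 (by omega)
    rw [Nat.xor_self] at h
    exact h.trans (D.toJMod.two _)
  have hne : ∀ a, a < 64 → a ≠ 0 → f.vec a ≠ 0 := fun a ha h0 h =>
    h0 (f.vec_inj a ha 0 (by omega) (h.trans hzero.symm))
  -- the hyperoval
  have hhy : ∀ a, a < 64 → a ≠ 0 → isHy a = true → m (f.vec a) = 1 := by
    intro a ha h0 hy
    rw [← hncard]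
    refine Set.ncard_eq_one.2 ⟨X.F.U0, Set.ext fun U => ⟨fun ⟨hU, hw⟩ => hP1 U hU a ha h0 hy hw, ?_⟩⟩
    rintro rfl
    exact ⟨D.toJMod.good_U0 L, f.vec_mem a ha⟩
  -- the other points
  obtain ⟨O, hO⟩ : ∃ O, O = MulAction.orbit ↥(cC z P) (f.vec 5) := ⟨_, rfl⟩
  have hOs : ∀ (g : ↥(cC z P)) w, w ∈ O → g • w ∈ O := by
    rintro g w hw
    rw [hO] at hw ⊢
    obtain ⟨k, rfl⟩ := hw
    exact ⟨g * k, mul_smul g k _⟩
  have hclass : ∀ a, a < 64 → f.vec a ∈ O → ∀ b, b < 64 → pnt b = pnt a → f.vec b ∈ O := by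
    intro a ha hmemO b hb hpn
    have hlt : ∀ x, x < 64 → sc 2 x < 64 := fun x hx => by
      simpa [Nat.blt_eq] using List.all_eq_true.1 sc_two_lt x (List.mem_range.2 hx)
    have h := List.all_eq_true.1 (List.all_eq_true.1 pnt_fibre a (List.mem_range.2 ha)) b (List.mem_range.2 hb)
    simp only [Bool.or_eq_true, Bool.not_eq_true'] at h
    rcases h with ((h | h) | h) | h
    · exact absurd hpn fun e => by simp [e] at h
    · rw [Nat.eq_of_beq_eq_true h]; exact hmemO
    · rw [Nat.eq_of_beq_eq_true h, ← f.vec_w a ha]; exact hOs _ _ hmemO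
    · rw [Nat.eq_of_beq_eq_true h, ← f.vec_w _ (hlt a ha), ← f.vec_w a ha]; exact hOs _ _ (hOs _ _ hmemO)
  have hreach : ∀ n, ∀ p ∈ reached n, p < 64 ∧ pnt p = p ∧ ∀ b, b < 64 → pnt b = p → f.vec b ∈ O := by
    have hpr : ∀ a, a < 64 → ∀ k, k < 4 → pmap k (pnt a) = pmap k a ∧ pnt a < 64 ∧ pnt (pnt a) = pnt a := by
      intro a ha k hk
      have h := List.all_eq_true.1 (List.all_eq_true.1 pnt_reach a (List.mem_range.2 ha)) k (List.mem_range.2 hk)
      simp only [Bool.and_eq_true, Nat.blt_eq] at h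
      exact ⟨Nat.eq_of_beq_eq_true h.1.1, h.1.2, Nat.eq_of_beq_eq_true h.2⟩
    intro n
    induction n with
    | zero =>
      intro p hp
      simp only [reached, List.mem_singleton] at hp
      subst hp
      obtain ⟨-, h2, h3⟩ := hpr 5 (by omega) 0 (by omega)
      exact ⟨h2, h3, fun b hb hpb => hclass 5 (by omega) (hO ▸ MulAction.mem_orbit_self _) b hb hpb⟩
    | succ n ih =>
      intro p hp
      simp only [reached, List.mem_eraseDups, reachStep, List.mem_append, List.mem_flatMap, List.mem_map,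
        List.mem_range] at hp
      rcases hp with hp | ⟨k, hk, q, hq, rfl⟩
      · exact ih p hp
      obtain ⟨hq64, hqq, hqO⟩ := ih q hq
      obtain ⟨g, hg⟩ := D.πsurj (X.n k)
      obtain ⟨v', hv', hgv, hpv⟩ := f.act_gen k hk g hg q hq64
      obtain ⟨-, h2, h3⟩ := hpr v' hv' 0 (by omega)
      rw [← hpv]
      exact ⟨h2, h3, fun b hb hpb => hclass v' hv' (hgv ▸ hOs g _ (hqO q hq64 hqq)) b hb hpb⟩
  have hother : ∀ a, a < 64 → a ≠ 0 → isHy a = false → f.vec a ∈ O := by
    intro a ha h0 hy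
    have h := List.all_eq_true.1 reached_cover a (List.mem_range.2 ha)
    simp only [Bool.or_eq_true, hy] at h
    rcases h with (h | h) | h
    · exact absurd (Nat.eq_of_beq_eq_true h) h0
    · exact absurd h Bool.false_ne_true
    · exact (hreach 8 _ (List.contains_iff_mem.1 h)).2.2 a ha rfl
  have hmO : ∀ w ∈ O, m w = m (f.vec 5) := by
    intro w hw
    rw [hO] at hw
    obtain ⟨g, rfl⟩ := hw
    exact hinv g _
  -- the singular vectors
  obtain ⟨S, hS⟩ : ∃ S : Finset (cV z), S = Finset.univ.filter (fun w => Sing w ∧ w ≠ 0) := ⟨_, rfl⟩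
  have hS1 : ∀ w ∈ S, ∃ (j : Fin 77) (a : ℕ), a < 64 ∧ a ≠ 0 ∧ w = c j • f.vec a := by
    intro w hw
    rw [hS, Finset.mem_filter] at hw
    obtain ⟨-, ⟨e, rfl, he⟩, hw0⟩ := hw
    obtain ⟨U, hU, hwU⟩ := hP3 e (Subtype.ext he)
    obtain ⟨j, rfl⟩ := hall U hU
    obtain ⟨a, ha, hav⟩ := f.vec_surj _ ((hmem j _).1 hwU)
    refine ⟨j, a, ha, fun h0 => hw0 ?_, by rw [hav, smul_inv_smul]⟩
    rw [h0, hzero] at hav
    rw [← smul_inv_smul (c j) (mk e), ← hav, smul_zero]
  have hScard : S.card = 2079 := by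
    have h := card_sing D L
    have : S = (Finset.univ.filter fun w : cV z => Sing w).erase 0 := by
      ext w; simp [hS, and_comm]
    have h0 : Sing (0 : cV z) := ⟨1, mk_one, by simp⟩
    rw [this, Finset.card_erase_of_mem (by simpa using h0), h]
  have hplane : ∀ (Q : cV z → Prop) [DecidablePred Q], (∀ (g : ↥(cC z P)) w, Q (g • w) ↔ Q w) → ∀ j : Fin 77,
      (S.filter fun w => Q w ∧ w ∈ D.toJMod.fix (conjSub (X.pl j) X.F.U0)).card =
        ((Finset.range 64).filter fun a => a ≠ 0 ∧ Q (f.vec a)).card := by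
    intro Q _ hQ j
    refine (Finset.card_bij (fun a _ => c j • f.vec a) ?_ ?_ ?_).symm
    · intro a ha
      rw [Finset.mem_filter, Finset.mem_range] at ha
      have hfx : c j • f.vec a ∈ D.toJMod.fix (conjSub (X.pl j) X.F.U0) := by
        rw [hmem, inv_smul_smul]; exact f.vec_mem a ha.1
      rw [Finset.mem_filter, hS, Finset.mem_filter]
      exact ⟨⟨Finset.mem_univ _, sing_of_fix D L (hgood j) hfx,
        fun h => hne a ha.1 ha.2.1 (by simpa using congrArg ((c j)⁻¹ • ·) h)⟩, (hQ _ _).2 ha.2.2, hfx⟩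
    · intro a ha b hb h
      rw [Finset.mem_filter, Finset.mem_range] at ha hb
      exact f.vec_inj a ha.1 b hb.1 (MulAction.injective (c j) h)
    · intro w hw
      rw [Finset.mem_filter, hS, Finset.mem_filter] at hw
      obtain ⟨a, ha, hav⟩ := f.vec_surj _ ((hmem j w).1 hw.2.2)
      refine ⟨a, ?_, by rw [hav, smul_inv_smul]⟩
      rw [Finset.mem_filter, Finset.mem_range]
      refine ⟨ha, fun h0 => hw.1.2.2 ?_, by rw [hav, hQ]; exact hw.2.1⟩
      rw [h0, hzero] at hav
      rw [← smul_inv_smul (c j) w, ← hav, smul_zero]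
  have hdouble : ∀ (Q : cV z → Prop) [DecidablePred Q], (∀ (g : ↥(cC z P)) w, Q (g • w) ↔ Q w) →
      ∑ w ∈ S.filter Q, m w = 77 * ((Finset.range 64).filter fun a => a ≠ 0 ∧ Q (f.vec a)).card := by
    intro Q _ hQ
    simp only [hm, Finset.card_filter (s := (Finset.univ : Finset (Fin 77)))]
    rw [Finset.sum_comm]
    rw [Finset.sum_congr rfl fun j _ => show _ = ((Finset.range 64).filter fun a => a ≠ 0 ∧ Q (f.vec a)).card by
      rw [← Finset.card_filter, Finset.filter_filter]; exact hplane Q hQ j]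
    simp
  have htot : ∑ w ∈ S, m w = 4851 := by
    have h := hdouble (fun _ => True) (fun _ _ => Iff.rfl)
    rw [Finset.filter_true_of_mem fun _ _ => trivial] at h
    simp only [and_true] at h
    rw [h, show ((Finset.range 64).filter fun a => a ≠ 0).card = 63 by decide]
  have hdich : ∀ w ∈ S, m w = 1 ∨ w ∈ O := by
    intro w hw
    obtain ⟨j, a, ha, h0, rfl⟩ := hS1 w hw
    rcases Bool.eq_false_or_eq_true (isHy a) with h | h
    · exact Or.inl (by rw [hinv]; exact hhy a ha h0 h)
    · exact Or.inr (hOs _ _ (hother a ha h0 h))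
  have h5 : m (f.vec 5) ≠ 1 := by
    intro h
    have : ∑ w ∈ S, m w = ∑ w ∈ S, 1 := Finset.sum_congr rfl fun w hw =>
      (hdich w hw).elim id fun hwO => (hmO w hwO).trans h
    rw [htot, Finset.sum_const, hScard, smul_eq_mul] at this
    omega
  have hone : ∑ w ∈ S.filter (fun w => m w = 1), m w = 77 * 18 := by
    rw [hdouble (fun w => m w = 1) (fun g w => by rw [hinv])]
    congr 1
    rw [← hy_count]
    refine congrArg Finset.card (Finset.filter_congr fun a ha => ?_)
    rw [Finset.mem_range] at ha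
    refine and_congr_right fun h0 => ⟨fun h => ?_, fun h => hhy a ha h0 h⟩
    by_contra hy
    rw [Bool.not_eq_true] at hy
    exact h5 ((hmO _ (hother a ha h0 hy)).symm.trans h)
  have honecard : (S.filter fun w => m w = 1).card = 1386 := by
    rw [Finset.sum_congr rfl fun w hw => (Finset.mem_filter.1 hw).2, Finset.sum_const, smul_eq_mul, mul_one] at hone
    omega
  have hrest := Finset.card_filter_add_card_filter_not (s := S) (fun w => m w = 1)
  have hsplit := Finset.sum_filter_add_sum_filter_not S (fun w => m w = 1) m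
  have hnot : ∑ w ∈ S.filter (fun w => ¬ m w = 1), m w =
      (S.filter fun w => ¬ m w = 1).card * m (f.vec 5) := by
    rw [Finset.sum_congr rfl fun w hw => hmO w (((hdich w (Finset.mem_filter.1 hw).1)).resolve_left
      (Finset.mem_filter.1 hw).2), Finset.sum_const, smul_eq_mul]
  have hn : (S.filter fun w => ¬ m w = 1).card = 693 := by omega
  have hm5 : m (f.vec 5) = 5 := by rw [hn] at hnot; omega
  have h5S : f.vec 5 ∈ S := by
    rw [hS, Finset.mem_filter]
    exact ⟨Finset.mem_univ _, sing_of_fix D L (D.toJMod.good_U0 L) (f.vec_mem 5 (by omega)),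
      hne 5 (by omega) (by omega)⟩
  have hOeq : O = ↑(S.filter fun w => ¬ m w = 1) := by
    ext w
    rw [Finset.coe_filter, Set.mem_setOf_eq]
    refine ⟨fun hw => ⟨?_, by rw [hmO w hw]; exact h5⟩, fun hw => (hdich w hw.1).resolve_left hw.2⟩
    rw [hO] at hw
    obtain ⟨g, rfl⟩ := hw
    show g • f.vec 5 ∈ S
    rw [hS, Finset.mem_filter]
    obtain ⟨j, hj⟩ : ∃ j : Fin 77, g • f.vec 5 ∈ D.toJMod.fix (conjSub (X.pl j) X.F.U0) := by
      by_contra hc
      push Not at hc
      have : m (g • f.vec 5) = 0 := by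
        rw [hm]; exact Finset.card_eq_zero.2 (Finset.filter_eq_empty_iff.2 fun j _ => hc j)
      rw [hinv, hm5] at this
      exact absurd this (by omega)
    exact ⟨Finset.mem_univ _, sing_of_fix D L (hgood j) hj,
      fun h => hne 5 (by omega) (by omega) (by simpa using congrArg (g⁻¹ • ·) h)⟩
  refine ⟨(hncard _).trans hm5, fun e he h => ?_, ?_⟩
  · rw [hncard] at h
    have hw : mk e ∈ O := by
      refine (hdich _ ?_).resolve_left (by omega)
      rw [hS, Finset.mem_filter]
      refine ⟨Finset.mem_univ _, ⟨e, rfl, congrArg Subtype.val he⟩, fun h0 => ?_⟩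
      rw [h0] at h
      have : m 0 = 77 := by
        rw [hm]; simp [zero_mem]
      omega
    rw [hO] at hw
    obtain ⟨g, hg⟩ := hw
    exact ⟨g, hg⟩
  · rw [← hO, hOeq, Set.ncard_coe_finset, hn]

end Cfsg.Agent.Lib.J4Pentad77
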