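import Cfsg.Agent.Lib.J4Two56.Stmts2

/-!
# The count of planes through a point off the hyperoval: statement
-/

set_option autoImplicit false

universe u

namespace Cfsg.Agent.Lib.J4Pentad77

open Cfsg Cfsg.Agent.Lib.J4Type19 Cfsg.Agent.Lib.J4Two56

/-- The planes through a vector. -/
def planesAt {G : Type u} [Group G] [Finite G] {z : G} {P : Subgroup G} (D : HData z P) (w : cV z) :
    Set (Subgroup M22t) :=
  {U | D.toJMod.Good U ∧ w ∈ D.toJMod.fix U}

/-- Five planes pass through the coded vector `5`, and the singular vectors with five planes are one orbit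
of length `693`. -/
def CountStmt : Prop :=
  ∀ (G : Type u) [Group G] [Finite G] (z : G) (P : Subgroup G) (D : HData z P) (X : Plus M22t)
    (L : Lifts D.toJMod X.F) (f : Frame56 D X L),
    (planesAt D (f.vec 5)).ncard = 5 ∧
    (∀ e : ↥(cE z), e * e = 1 → (planesAt D (mk e)).ncard = 5 → ∃ c : ↥(cC z P), c • f.vec 5 = mk e) ∧
    (MulAction.orbit ↥(cC z P) (f.vec 5)).ncard = 693

end Cfsg.Agent.Lib.J4Pentad77
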