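import Mathlib
import Cfsg.Prelude.Def_Transfer
import Cfsg.Prelude.Def_Solvable
import Cfsg.Prelude.Def_TwoFusion

/-!
# Interface for the pentad two-local subgroup of a group of type J4

`PentadHyp` collects what the plane geometry at the involution gives; the rest is abstract group theory.
-/

set_option autoImplicit false

universe u

namespace Cfsg.Agent.Lib.J4Pentad77

open Cfsg

variable (G : Type u) [Group G]

/-- The conclusion on a subgroup of order five. -/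
def FiveConcl (Q : Subgroup G) : Prop :=
  ¬ (25 ∣ Nat.card G) ∧
    (∃ J : Subgroup G, Cfsg.IsInternalDirectProduct Q J (Subgroup.centralizer (Q : Set G)) ∧
      ∃ (E : Subgroup ↥J) (_ : E.Normal), Cfsg.IsElementaryAbelian 2 E ∧ Nat.card ↥E = 8 ∧
        Nonempty (↥J ⧸ E ≃* Matrix.SpecialLinearGroup (Fin 3) (ZMod 2)) ∧ ∀ K : Subgroup ↥J, ¬ E.IsComplement' K) ∧
    (∃ R : Subgroup G, Q ≤ R ∧ R ≤ Subgroup.normalizer (Q : Set G) ∧ Nat.card ↥R = 20 ∧
      R ⊓ Subgroup.centralizer (Q : Set G) = Q) ∧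
    Nat.card ↥(Subgroup.normalizer (Q : Set G)) = 2 ^ 8 * 3 * 5 * 7

/-- The conclusion on a subgroup of order seven. -/
def SevenConcl (S : Subgroup G) : Prop :=
  ¬ (49 ∣ Nat.card G) ∧
    (∃ I : Subgroup G, Cfsg.IsInternalDirectProduct S I (Subgroup.centralizer (S : Set G)) ∧
      Nonempty (↥I ≃* Equiv.Perm (Fin 5))) ∧
    Nat.card ↥(Subgroup.normalizer (S : Set G)) = 3 * Nat.card ↥(Subgroup.centralizer (S : Set G)) ∧
    Nat.card ↥(Subgroup.normalizer (S : Set G)) = 2 ^ 3 * 3 ^ 2 * 5 * 7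

/-- What the geometry gives about a four-group of points with its five elementary subgroups. -/
structure PentadHyp : Type u where
  Z : Subgroup G
  elem : Cfsg.IsElementaryAbelian 2 Z
  cardZ : Nat.card ↥Z = 8
  card_cent : Nat.card ↥(Subgroup.centralizer (Z : Set G)) = 2 ^ 15 * 120
  card_norm : Nat.card ↥(Subgroup.normalizer (Z : Set G)) = 2 ^ 15 * 120 * 168
  five : Set (Subgroup G)
  card_five : five.ncard = 5
  five_conj : ∀ g ∈ Subgroup.normalizer (Z : Set G), ∀ B ∈ five, B.map (MulAut.conj g).toMonoidHom ∈ five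
  five_trans : ∀ B ∈ five, ∀ B' ∈ five,
    ∃ c ∈ Subgroup.centralizer (Z : Set G), B.map (MulAut.conj c).toMonoidHom = B'
  five_fix : ∀ x ∈ Z, ∀ B ∈ five, B.map (MulAut.conj x).toMonoidHom = B
  irred : ∀ a ∈ Z, ∀ b ∈ Z, a ≠ 1 → b ≠ 1 → ∃ g ∈ Subgroup.normalizer (Z : Set G), g * a * g⁻¹ = b
  nonab : ∃ a ∈ Subgroup.centralizer (Z : Set G), ∃ b ∈ Subgroup.centralizer (Z : Set G),
    (∀ B ∈ five, B.map (MulAut.conj a).toMonoidHom = B) ∧ (∀ B ∈ five, B.map (MulAut.conj b).toMonoidHom = B) ∧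
      a * b ≠ b * a
  fiveQ : ∀ Q : Subgroup G, Nat.card ↥Q = 5 → Q ≤ Subgroup.centralizer (Z : Set G) → FiveConcl G Q
  sevenS : ∀ S : Subgroup G, Nat.card ↥S = 7 → SevenConcl G S
  k2 : ∃ K : Subgroup G, K ≤ Subgroup.normalizer (Z : Set G) ∧
    Nonempty (↥K ≃* Matrix.SpecialLinearGroup (Fin 3) (ZMod 2))

/-- The conclusion of the statement. -/
def PentadConcl : Prop :=
    ∃ L : Subgroup G, Cfsg.IsSpecial 2 ↥L ∧ Nat.card ↥L = 2 ^ 15 ∧ Nat.card ↥(Subgroup.center ↥L) = 8 ∧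
    Nonempty (↥(Subgroup.normalizer (L : Set G)) ⧸ L.subgroupOf (Subgroup.normalizer (L : Set G)) ≃*
      Equiv.Perm (Fin 5) × Matrix.SpecialLinearGroup (Fin 3) (ZMod 2)) ∧
    (∀ K : Subgroup ↥(Subgroup.normalizer (L : Set G)),
      ¬ (L.subgroupOf (Subgroup.normalizer (L : Set G))).IsComplement' K) ∧
    (∃ K₁ : Subgroup G, K₁ ≤ Subgroup.normalizer (L : Set G) ∧ Nonempty (↥K₁ ≃* Equiv.Perm (Fin 5))) ∧
    (∃ K₂ : Subgroup G, K₂ ≤ Subgroup.normalizer (L : Set G) ∧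
      Nonempty (↥K₂ ≃* Matrix.SpecialLinearGroup (Fin 3) (ZMod 2))) ∧
    (∃ Q : Sylow 5 G, Subgroup.normalizer ((Q : Subgroup G) : Set G) ≤ Subgroup.normalizer (L : Set G)) ∧
    (∃ S : Sylow 7 G, Subgroup.normalizer ((S : Subgroup G) : Set G) ≤ Subgroup.normalizer (L : Set G))

end Cfsg.Agent.Lib.J4Pentad77
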