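import Cfsg.Agent.Lib.J4Pentad77.Zsub
import Cfsg.Agent.Lib.J4Pentad77.Count

/-!
# The stabiliser of the first plane on its points off the hyperoval
-/

set_option autoImplicit false

universe u

namespace Cfsg.Agent.Lib.J4Pentad77

open Cfsg Cfsg.Agent.Lib.J4Type19 Cfsg.Agent.Lib.J4Two56

attribute [local instance] m22_finite

variable {G : Type u} [Group G] [Finite G] {z : G} {P : Subgroup G} {D : HData z P} {X : Plus M22t}
  {L : Lifts D.toJMod X.F} (l : Loc D X L)
include l

/-- Reached from the chosen vector by the stabiliser of the first plane. -/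
def InBlock (w : cV z) : Prop :=
  ∃ c : ↥(cC z P), X.F.U0.map (MulAut.conj (D.π c)).toMonoidHom = X.F.U0 ∧ c • l.f.vec 5 = w

theorem inBlock_smul {c : ↥(cC z P)} (hc : X.F.U0.map (MulAut.conj (D.π c)).toMonoidHom = X.F.U0) {w : cV z}
    (hw : InBlock l w) : InBlock l (c • w) := by
  obtain ⟨d, hd, rfl⟩ := hw
  refine ⟨c * d, ?_, mul_smul c d _⟩
  rw [map_mul, map_mul]
  conv_rhs => rw [← hc, ← hd, Subgroup.map_map]
  rfl

theorem norm_n {k : ℕ} (hk : k < 4) {c : ↥(cC z P)} (hc : D.π c = X.n k) :
    X.F.U0.map (MulAut.conj (D.π c)).toMonoidHom = X.F.U0 := by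
  refine Subgroup.eq_of_le_of_card_ge ?_
    (Nat.card_congr (Subgroup.equivMapOfInjective _ _ (MulAut.conj (D.π c)).injective).toEquiv).le
  rintro _ ⟨x, hx, rfl⟩
  obtain ⟨i, hi, rfl⟩ := X.u_surj x hx
  show D.π c * X.u i * (D.π c)⁻¹ ∈ X.F.U0
  rw [hc, X.nu k hk i hi]
  exact X.u_mem _ (by
    have : ∀ k, k < 4 → ∀ i, i < 16 → M22D.uP k i < 16 := by decide +kernel
    exact this k hk i hi)

theorem inBlock_class {a : ℕ} (ha : a < 64) (h : InBlock l (l.f.vec a)) {b : ℕ} (hb : b < 64)
    (hp : pnt b = pnt a) : InBlock l (l.f.vec b) := by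
  have hlt : ∀ x, x < 64 → sc 2 x < 64 := fun x hx => by
    simpa [Nat.blt_eq] using List.all_eq_true.1 sc_two_lt x (List.mem_range.2 hx)
  have hw : ∀ x, x < 64 → InBlock l (l.f.vec x) → InBlock l (l.f.vec (sc 2 x)) := fun x hx hx' => by
    rw [← l.f.vec_w x hx]
    refine inBlock_smul l (c := D.toJMod.ω ^ L.e) ?_ hx'
    rw [map_pow, show D.π D.toJMod.ω = 1 from D.toJMod.πω, one_pow, map_one]
    exact Subgroup.map_id _
  have h' := List.all_eq_true.1 (List.all_eq_true.1 pnt_fibre a (List.mem_range.2 ha)) b (List.mem_range.2 hb)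
  simp only [Bool.or_eq_true, Bool.not_eq_true'] at h'
  rcases h' with ((h' | h') | h') | h'
  · exact absurd hp fun e => by simp [e] at h'
  · rw [Nat.eq_of_beq_eq_true h']; exact h
  · rw [Nat.eq_of_beq_eq_true h']; exact hw a ha h
  · rw [Nat.eq_of_beq_eq_true h']; exact hw _ (hlt a ha) (hw a ha h)

/-- The points off the hyperoval form one block. -/
theorem inBlock_of_not_hy {a : ℕ} (ha : a < 64) (h0 : a ≠ 0) (hy : isHy a = false) : InBlock l (l.f.vec a) := by
  have hpr : ∀ a, a < 64 → ∀ k, k < 4 → pnt a < 64 ∧ pnt (pnt a) = pnt a := by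
    intro a ha k hk
    have h := List.all_eq_true.1 (List.all_eq_true.1 pnt_reach a (List.mem_range.2 ha)) k (List.mem_range.2 hk)
    simp only [Bool.and_eq_true, Nat.blt_eq] at h
    exact ⟨h.1.2, Nat.eq_of_beq_eq_true h.2⟩
  have hstart : InBlock l (l.f.vec 5) := ⟨1, by rw [map_one, map_one]; exact Subgroup.map_id _, one_smul _ _⟩
  have hreach : ∀ n, ∀ p ∈ reached n, p < 64 ∧ ∀ b, b < 64 → pnt b = p → InBlock l (l.f.vec b) := by
    intro n
    induction n with
    | zero =>
      intro p hp
      simp only [reached, List.mem_singleton] at hp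
      subst hp
      exact ⟨(hpr 5 (by omega) 0 (by omega)).1, fun b hb hpb => inBlock_class l (by omega) hstart hb hpb⟩
    | succ n ih =>
      intro p hp
      simp only [reached, List.mem_eraseDups, reachStep, List.mem_append, List.mem_flatMap, List.mem_map,
        List.mem_range] at hp
      rcases hp with hp | ⟨k, hk, q, hq, rfl⟩
      · exact ih p hp
      obtain ⟨hq64, hqO⟩ := ih q hq
      have hqq : pnt q = q := by
        have : ∀ m, ∀ q ∈ reached m, pnt q = q := by
          intro m
          induction m with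
          | zero => intro q hq; simp only [reached, List.mem_singleton] at hq; subst hq; exact (hpr 5 (by omega) 0 (by omega)).2
          | succ m ihm =>
            intro q hq
            simp only [reached, List.mem_eraseDups, reachStep, List.mem_append, List.mem_flatMap, List.mem_map,
              List.mem_range] at hq
            rcases hq with hq | ⟨k', hk', r, hr, rfl⟩
            · exact ihm q hq
            obtain ⟨g, hg⟩ := D.πsurj (X.n k')
            have hr64 : r < 64 := by
              have hall : ∀ k q, k < 4 → pmap k q < 64 := by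
                intro k q hk
                by_cases hq : q < 64
                · have : ∀ k, k < 4 → ∀ q, q < 64 → pmap k q < 64 := by decide +kernel
                  exact this k hk q hq
                · have hlen : ∀ k, k < 4 → (M22D.ptMaps.getD k []).length ≤ 64 := by decide +kernel
                  rw [pmap, List.getD_eq_default _ _ ((hlen k hk).trans (Nat.le_of_not_lt hq))]
                  norm_num
              have : ∀ m, ∀ r ∈ reached m, r < 64 := by
                intro m
                induction m with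
                | zero => intro r hr; simp only [reached, List.mem_singleton] at hr; subst hr; exact (hpr 5 (by omega) 0 (by omega)).1
                | succ m ihm' =>
                  intro r hr
                  simp only [reached, List.mem_eraseDups, reachStep, List.mem_append, List.mem_flatMap,
                    List.mem_map, List.mem_range] at hr
                  rcases hr with hr | ⟨k'', hk'', s, hs, rfl⟩
                  · exact ihm' r hr
                  exact hall k'' s hk''
              exact this _ r hr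
            obtain ⟨v', hv', -, hpv⟩ := l.f.act_gen k' hk' g hg r hr64
            rw [← hpv]
            exact (hpr v' hv' 0 (by omega)).2
        exact this n q hq
      obtain ⟨g, hg⟩ := D.πsurj (X.n k)
      obtain ⟨v', hv', hgv, hpv⟩ := l.f.act_gen k hk g hg q hq64
      rw [← hpv]
      refine ⟨(hpr v' hv' 0 (by omega)).1, fun b hb hpb => inBlock_class l hv' ?_ hb hpb⟩
      rw [← hgv]
      exact inBlock_smul l (norm_n l hk hg) (hqO q hq64 hqq)
  have h := List.all_eq_true.1 reached_cover a (List.mem_range.2 ha)
  simp only [Bool.or_eq_true, hy] at h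
  rcases h with (h | h) | h
  · exact absurd (Nat.eq_of_beq_eq_true h) h0
  · exact absurd h Bool.false_ne_true
  · exact (hreach 8 _ (List.contains_iff_mem.1 h)).2 a ha rfl

variable (hP : PlanesStmt.{u}) (hC : CountStmt.{u})
include hP hC

omit hP hC in
theorem planesAt_smul (c : ↥(cC z P)) (w : cV z) : (planesAt D (c • w)).ncard = (planesAt D w).ncard := by
  have h1 := planesAt_le D L c w
  have h2 := planesAt_le D L c⁻¹ (c • w)
  rw [inv_smul_smul] at h2
  omega

/-- The stabiliser of the chosen vector is transitive on the planes through it. -/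
theorem planes_trans {U : Subgroup M22t} (hU : D.toJMod.Good U) (h5 : l.f.vec 5 ∈ D.toJMod.fix U) :
    ∃ c : ↥(cC z P), c • l.f.vec 5 = l.f.vec 5 ∧ U.map (MulAut.conj (D.π c)).toMonoidHom = X.F.U0 := by
  obtain ⟨d, hd⟩ := exists_to_U0 l hU
  have hd5 : d • l.f.vec 5 ∈ D.toJMod.fix X.F.U0 := by
    rw [← hd, fix_map]; exact h5
  obtain ⟨a, ha, hav⟩ := l.f.vec_surj _ hd5
  have hm : (planesAt D (l.f.vec a)).ncard = 5 := by
    rw [hav, planesAt_smul l]; exact (hC G z P D X L l.f).1
  have ha0 : a ≠ 0 := fun h => by
    rw [h, vec_zero' l] at hav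
    refine vec5_ne l ?_
    rw [← inv_smul_smul d (l.f.vec 5), ← hav, smul_zero]
  have hy : isHy a = false := by
    by_contra hc
    rw [Bool.not_eq_false] at hc
    have : planesAt D (l.f.vec a) = {X.F.U0} := Set.ext fun U' => ⟨fun h =>
      (hP G z P D X L l.f).1 U' h.1 a ha ha0 hc h.2, by rintro rfl; exact ⟨D.toJMod.good_U0 L, l.f.vec_mem a ha⟩⟩
    rw [this, Set.ncard_singleton] at hm
    omega
  obtain ⟨e, he, hev⟩ := inBlock_of_not_hy l ha ha0 hy
  refine ⟨e⁻¹ * d, ?_, ?_⟩
  · rw [mul_smul, ← hav, ← hev, inv_smul_smul]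
  · rw [map_mul, map_mul]
    conv_rhs => rw [show X.F.U0 = X.F.U0.map (MulAut.conj (D.π e⁻¹)).toMonoidHom by
      conv_rhs => rw [← he, Subgroup.map_map]
      symm
      convert Subgroup.map_id X.F.U0 using 2
      ext x
      simp [mul_assoc], ← hd, Subgroup.map_map]
    rfl

end Cfsg.Agent.Lib.J4Pentad77
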