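import Cfsg.Agent.Lib.J4Pentad77.Point
import Cfsg.Agent.Lib.J4Pentad77.Trans
import Cfsg.Agent.Lib.J4Pentad77.Spec

/-!
# The facts at the point handed to the abstract argument
-/

set_option autoImplicit false

universe u

namespace Cfsg.Agent.Lib.J4Pentad77

open Cfsg Cfsg.Agent.Lib.J4Type19 Cfsg.Agent.Lib.J4Two56

attribute [local instance] m22_finite hAct

variable {G : Type u} [Group G] [Finite G] {z : G} {P : Subgroup G}

/-- Conjugation of subgroups as an action. -/
@[reducible] noncomputable def subAct : MulAction G (Subgroup G) where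
  smul g B := B.map (MulAut.conj g).toMonoidHom
  one_smul B := by
    show B.map (MulAut.conj (1 : G)).toMonoidHom = B
    rw [map_one]
    exact Subgroup.map_id B
  mul_smul g h B := by
    show B.map (MulAut.conj (g * h)).toMonoidHom =
      (B.map (MulAut.conj h).toMonoidHom).map (MulAut.conj g).toMonoidHom
    rw [Subgroup.map_map, map_mul]
    rfl

variable {D : HData z P} {X : Plus M22t} {L : Lifts D.toJMod X.F} (l : Loc D X L)
include l

/-- The normaliser of the subgroup over the point. -/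
abbrev normZ : Subgroup G := Subgroup.normalizer (zsub l : Set G)

theorem fives_conj {g : G} (hg : g ∈ normZ l) {B : Subgroup G} (hB : B ∈ fives l) :
    B.map (MulAut.conj g).toMonoidHom ∈ fives l := by
  refine ⟨isElementary_map hB.1 g, ?_, ?_⟩
  · rw [← Nat.card_congr (Subgroup.equivMapOfInjective B _ (MulAut.conj g).injective).toEquiv, hB.2.1]
  · rw [← Subgroup.mem_normalizer_iff_map_conj_eq.1 hg]
    exact Subgroup.map_mono hB.2.2

theorem cent_le_cH : Subgroup.centralizer (zsub l : Set G) ≤ cH z := fun g hg =>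
  Subgroup.mem_centralizer_singleton_iff.2 (Subgroup.mem_centralizer_iff.1 hg z (z_mem_zsub l)).symm

theorem el_conj_K {k : ↥(Subgroup.normalizer (l.T.V : Set G))} (hk : l.T.ρ k ∈ trioGrp) :
    (k : G) ∈ normZ l := by
  rw [Subgroup.mem_normalizer_iff_map_conj_eq]
  refine Subgroup.eq_of_le_of_card_ge ?_
    (Nat.card_congr (Subgroup.equivMapOfInjective _ _ (MulAut.conj (k : G)).injective).toEquiv).le
  rintro _ ⟨y, ⟨n, hn, rfl⟩, rfl⟩
  show (k : G) * l.T.el n * (k : G)⁻¹ ∈ zsub l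
  rw [l.T.ρ_spec k n ((zCodes_lt hn).trans (by norm_num))]
  exact el_mem_zsub l (trioGrp_stab hk hn)

theorem irred_z {b : G} (hb : b ∈ zsub l) (hb1 : b ≠ 1) : ∃ g ∈ normZ l, g * z * g⁻¹ = b := by
  obtain ⟨n, hn, rfl⟩ := hb
  have hn0 : n ≠ 0 := fun h => hb1 (by rw [h, l.T.el_zero])
  obtain ⟨σ, hσ, e⟩ := trioGrp_trans (n := 1) (by simp [zCodes]) one_ne_zero hn hn0
  obtain ⟨k, rfl⟩ := l.T.ρ_surj σ
  refine ⟨k, el_conj_K l hσ, ?_⟩
  have := l.T.ρ_spec k 1 (by norm_num)
  rwa [e, l.T.el_z] at this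

theorem irred_all {a b : G} (ha : a ∈ zsub l) (hb : b ∈ zsub l) (ha1 : a ≠ 1) (hb1 : b ≠ 1) :
    ∃ g ∈ normZ l, g * a * g⁻¹ = b := by
  obtain ⟨g, hg, e⟩ := irred_z l ha ha1
  obtain ⟨g', hg', e'⟩ := irred_z l hb hb1
  exact ⟨g' * g⁻¹, mul_mem hg' (inv_mem hg), by rw [← e', ← e]; group⟩

variable (hP : PlanesStmt.{u}) (hC : CountStmt.{u})
include hP hC

theorem card_normZ : Nat.card ↥(normZ l) = 2 ^ 15 * 120 * 168 := by
  letI : MulAction ↥(normZ l) ↥(zsub l) := MulAction.compHom _ (zsub l).normalizerMonoidHom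
  obtain ⟨z0, hz0⟩ : ∃ z0 : ↥(zsub l), z0 = ⟨z, z_mem_zsub l⟩ := ⟨_, rfl⟩
  have hsm : ∀ (g : ↥(normZ l)) (y : ↥(zsub l)), ((g • y : ↥(zsub l)) : G) = (g : G) * y * (g : G)⁻¹ :=
    fun g y => rfl
  have hz0v : ((z0 : ↥(zsub l)) : G) = z := by rw [hz0]
  have horb : MulAction.orbit ↥(normZ l) z0 = ({1}ᶜ : Set ↥(zsub l)) := by
    refine Set.Subset.antisymm ?_ ?_
    · rintro _ ⟨g, rfl⟩ h
      refine z_ne D.hJ ?_
      have h' : (g : G) * z * (g : G)⁻¹ = 1 := by
        have := congrArg Subtype.val (Set.mem_singleton_iff.1 h)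
        rwa [hsm, hz0v] at this
      exact conj_eq_one_iff.1 h'
    · intro y hy
      obtain ⟨g, hg, e⟩ := irred_z l y.2 fun h => hy (Subtype.ext h)
      exact ⟨⟨g, hg⟩, Subtype.ext (by rw [hsm, hz0v]; exact e)⟩
  have hst : Nat.card ↥(MulAction.stabilizer ↥(normZ l) z0) = Nat.card ↥(normH l) := by
    refine Nat.card_congr
      { toFun := fun g => ⟨⟨((g : ↥(normZ l)) : G), ?_⟩, (g : ↥(normZ l)).2⟩
        invFun := fun h => ⟨⟨((h : ↥(cH z)) : G), h.2⟩, ?_⟩
        left_inv := fun g => rfl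
        right_inv := fun h => rfl }
    · refine Subgroup.mem_centralizer_singleton_iff.2 ?_
      have := congrArg Subtype.val (MulAction.mem_stabilizer_iff.1 g.2)
      rw [hsm, hz0v] at this
      exact mul_inv_eq_iff_eq_mul.1 this
    · refine MulAction.mem_stabilizer_iff.2 (Subtype.ext ?_)
      rw [hsm, hz0v]
      show ((h : ↥(cH z)) : G) * z * ((h : ↥(cH z)) : G)⁻¹ = z
      rw [Subgroup.mem_centralizer_singleton_iff.1 (h : ↥(cH z)).2, mul_inv_cancel_right]
  have h := (MulAction.stabilizer ↥(normZ l) z0).card_mul_index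
  rw [MulAction.index_stabilizer, horb, hst, card_normH l hP hC, Set.ncard_compl, Set.ncard_singleton,
    card_zsub] at h
  rw [← h]; norm_num

omit hP hC in
/-- The lift of the group of order 168 in the complement. -/
noncomputable def trioLift (S : Split56 G z l.T) : Subgroup ↥S.K := trioGrp.comap (permHom S)

omit hP hC in
theorem trioLift_le (S : Split56 G z l.T) : (trioLift l S).map S.K.subtype ≤ normZ l := by
  rintro _ ⟨k, hk, rfl⟩
  exact el_conj_K l (k := ⟨(k : G), S.le k.2⟩) hk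

theorem aut_facts (S : Split56 G z l.T) :
    (∃ K : Subgroup G, K ≤ normZ l ∧ Nonempty (↥K ≃* Matrix.SpecialLinearGroup (Fin 3) (ZMod 2))) ∧
      Nat.card ↥(Subgroup.centralizer (zsub l : Set G)) = 2 ^ 15 * 120 := by
  obtain ⟨sl⟩ := S3344.mulAut_equiv_sl32 (V := ↥(zsub l)) (card_zsub l)
    (fun u => Subtype.ext (by rw [Subgroup.coe_mul, ← pow_two]; exact (zsub_elem l).2 _ u.2))
    (fun u v => Subtype.ext (congrArg Subtype.val ((zsub_elem l).1.is_comm.comm u v)))
  have hcard : Nat.card (MulAut ↥(zsub l)) = 168 := by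
    rw [Nat.card_congr sl.toEquiv, S3344.card_sl32_q]
  let χ : ↥(trioLift l S) →* MulAut ↥(zsub l) := (zsub l).normalizerMonoidHom.comp
    { toFun := fun k => ⟨((k : ↥S.K) : G), trioLift_le l S ⟨k, k.2, rfl⟩⟩
      map_one' := rfl
      map_mul' := fun _ _ => rfl }
  have hinj : Function.Injective χ := by
    intro k k' h
    apply Subtype.ext
    apply permHom_injective S
    refine trioGrp_faithful k.2 k'.2 fun n hn => ?_
    have e := congrArg (fun f : MulAut ↥(zsub l) => ((f ⟨_, el_mem_zsub l hn⟩ : ↥(zsub l)) : G)) h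
    have e1 := l.T.ρ_spec ⟨((k : ↥S.K) : G), S.le (k : ↥S.K).2⟩ n ((zCodes_lt hn).trans (by norm_num))
    have e2 := l.T.ρ_spec ⟨((k' : ↥S.K) : G), S.le (k' : ↥S.K).2⟩ n ((zCodes_lt hn).trans (by norm_num))
    exact l.T.el_inj _ (act_lt _ _) _ (act_lt _ _) (e1.symm.trans (e.trans e2))
  have hc168 : Nat.card ↥(trioLift l S) = 168 := by
    rw [← card_trioGrp]
    refine Nat.card_eq_of_bijective (fun k => (⟨permHom S k, k.2⟩ : ↥trioGrp)) ⟨fun a b h => ?_, fun σ => ?_⟩
    · exact Subtype.ext (permHom_injective S (congrArg Subtype.val h))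
    · obtain ⟨k, hk⟩ := permHom_surjective S (σ : ↥Cfsg.M24)
      exact ⟨⟨k, show permHom S k ∈ trioGrp from hk ▸ σ.2⟩, Subtype.ext hk⟩
  have hbij : Function.Bijective χ := (Nat.bijective_iff_injective_and_card χ).2 ⟨hinj, hc168.trans hcard.symm⟩
  refine ⟨⟨(trioLift l S).map S.K.subtype, trioLift_le l S, ⟨((Subgroup.equivMapOfInjective _ _
    S.K.subtype_injective).symm.trans (MulEquiv.ofBijective χ hbij)).trans sl⟩⟩, ?_⟩
  have hsurj : Function.Surjective (zsub l).normalizerMonoidHom := fun a => by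
    obtain ⟨k, hk⟩ := hbij.2 a
    exact ⟨_, hk⟩
  have h := (zsub l).normalizerMonoidHom.ker.card_mul_index
  rw [Subgroup.index_ker, MonoidHom.range_eq_top.2 hsurj, Subgroup.card_top, hcard,
    Subgroup.normalizerMonoidHom_ker,
    Nat.card_congr (Subgroup.subgroupOfEquivOfLe (Subgroup.centralizer_le_normalizer _)).toEquiv,
    card_normZ l hP hC] at h
  exact Nat.eq_of_mul_eq_mul_right (by norm_num) h

attribute [local instance] subAct

theorem five_trans (S : Split56 G z l.T) {B B' : Subgroup G} (hB : B ∈ fives l) (hB' : B' ∈ fives l) :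
    ∃ c ∈ Subgroup.centralizer (zsub l : Set G), B.map (MulAut.conj c).toMonoidHom = B' := by
  obtain ⟨N, hN⟩ : ∃ N, N = normZ l ⊓ cH z := ⟨_, rfl⟩
  have hto : ∀ B ∈ fives l, ∃ g ∈ N, B.map (MulAut.conj g).toMonoidHom = l.T.V := by
    intro B hB
    obtain ⟨U, hU, -⟩ := exists_belongs l hP hB.1 hB.2.1 (hB.2.2 (z_mem_zsub l))
    have h5 : l.f.vec 5 ∈ D.toJMod.fix U :=
      mk_e10 l ▸ (hU.2 _).1 (hB.2.2 (el_mem_zsub l (n := 10) (by simp [zCodes])))
    obtain ⟨c, hc5, hcU⟩ := planes_trans l hP hC hU.1 h5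
    refine ⟨(c : G), hN ▸ ⟨?_, c.2.1⟩, eq_of_belongs l hP hB.1 hB.2.1 (hB.2.2 (z_mem_zsub l)) hU hcU⟩
    exact stab_le_normH l (x := (⟨(c : G), c.2.1⟩ : ↥(cH z)))
      (MulAction.mem_stabilizer_iff.2 ((inH_smul c _).trans hc5))
  have horb : MulAction.orbit ↥N l.T.V = fives l := by
    refine Set.Subset.antisymm ?_ ?_
    · rintro _ ⟨g, rfl⟩
      exact fives_conj l (g := (g : G)) ((hN ▸ g.2 : (g : G) ∈ normZ l ⊓ cH z)).1
        ⟨l.T.isElementary, l.T.card_V, zsub_le_V l⟩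
    · intro B hB
      obtain ⟨g, hg, e⟩ := hto B hB
      refine MulAction.mem_orbit_symm.1 ⟨⟨g, hg⟩, e⟩
  have hcardN : Nat.card ↥N = 2 ^ 13 * 11520 := by
    rw [← card_normH l hP hC, hN, inf_comm]
    exact Nat.card_congr (Subgroup.subgroupOfEquivOfLe (inf_le_left : cH z ⊓ normZ l ≤ cH z)).toEquiv.symm
      |>.trans (by rw [Subgroup.inf_subgroupOf_left]; rfl)
  have hidx : (MulAction.stabilizer ↥N l.T.V).index = 5 := by
    rw [MulAction.index_stabilizer, horb, card_fives l hP hC]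
  obtain ⟨C, hCdef⟩ : ∃ C, C = (Subgroup.centralizer (zsub l : Set G)).subgroupOf N := ⟨_, rfl⟩
  have hCn : C.Normal := by
    rw [hCdef]
    refine ⟨fun c hc g => ?_⟩
    rw [Subgroup.mem_subgroupOf] at hc ⊢
    refine Subgroup.mem_centralizer_iff.2 fun y hy => ?_
    have hy' : (g : G)⁻¹ * y * (g : G) ∈ zsub l := by
      have := (Subgroup.mem_normalizer_iff.1 (inv_mem (hN ▸ g.2 : (g : G) ∈ normZ l ⊓ cH z).1) y).1 hy
      simpa using this
    have := Subgroup.mem_centralizer_iff.1 hc _ hy'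
    show y * ((g : G) * c * (g : G)⁻¹) = (g : G) * c * (g : G)⁻¹ * y
    calc y * ((g : G) * c * (g : G)⁻¹) = (g : G) * ((g : G)⁻¹ * y * g * c) * (g : G)⁻¹ := by group
      _ = (g : G) * ((c : G) * ((g : G)⁻¹ * y * g)) * (g : G)⁻¹ := by rw [this]
      _ = _ := by group
  have hCidx : C.index = 24 := by
    have h := C.card_mul_index
    rw [hcardN, hCdef, Nat.card_congr (Subgroup.subgroupOfEquivOfLe (show Subgroup.centralizer (zsub l : Set G) ≤ N
      from hN ▸ le_inf (Subgroup.centralizer_le_normalizer _) (cent_le_cH l))).toEquiv, (aut_facts l hP hC S).2] at h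
    rw [hCdef]
    omega
  have htop : C ⊔ MulAction.stabilizer ↥N l.T.V = ⊤ := by
    refine Subgroup.index_eq_one.1 ?_
    have h1 := Subgroup.index_dvd_of_le (le_sup_left : C ≤ C ⊔ MulAction.stabilizer ↥N l.T.V)
    have h2 := Subgroup.index_dvd_of_le (le_sup_right : _ ≤ C ⊔ MulAction.stabilizer ↥N l.T.V)
    rw [hCidx] at h1
    rw [hidx] at h2
    exact Nat.eq_one_of_dvd_coprimes (by norm_num : Nat.Coprime 24 5) h1 h2
  have hC2 : ∀ B ∈ fives l, ∃ c ∈ Subgroup.centralizer (zsub l : Set G),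
      l.T.V.map (MulAut.conj c).toMonoidHom = B := by
    intro B hB
    obtain ⟨g, rfl⟩ := horb.ge hB
    obtain ⟨c, hc, s, hs, rfl⟩ := Subgroup.mem_sup_of_normal_left.1 (htop.ge (Subgroup.mem_top g))
    refine ⟨(c : G), hCdef.le hc, ?_⟩
    show c • l.T.V = (c * s) • l.T.V
    rw [mul_smul, MulAction.mem_stabilizer_iff.1 hs]
  obtain ⟨c, hc, e⟩ := hC2 B hB
  obtain ⟨c', hc', e'⟩ := hC2 B' hB'
  refine ⟨c' * c⁻¹, mul_mem hc' (inv_mem hc), ?_⟩
  show (c' * c⁻¹) • B = B'
  rw [mul_smul, ← e, ← e']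
  show c' • c⁻¹ • c • l.T.V = c' • l.T.V
  rw [inv_smul_smul]

omit hC in
theorem nonab : ∃ a ∈ Subgroup.centralizer (zsub l : Set G), ∃ b ∈ Subgroup.centralizer (zsub l : Set G),
    (∀ B ∈ fives l, B.map (MulAut.conj a).toMonoidHom = B) ∧
      (∀ B ∈ fives l, B.map (MulAut.conj b).toMonoidHom = B) ∧ a * b ≠ b * a := by
  classical
  have := D.toJMod.finiteV
  obtain ⟨R, hR⟩ : ∃ R, R = perpOf D.toJMod.β (ptSub l) := ⟨_, rfl⟩
  have hcent : ∀ e : ↥(cE z), mk e ∈ R → (e : G) ∈ Subgroup.centralizer (zsub l : Set G) := by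
    intro e he
    rw [hR] at he
    refine Subgroup.mem_centralizer_iff.2 fun y hy => ?_
    exact (congrArg Subtype.val (pair_eq_zero.1 (he _ ((mem_zsub_iff l ⟨y, zsub_le_cE l hy⟩).1 hy))).eq).symm
  have hfixB : ∀ e : ↥(cE z), ∀ B ∈ fives l, B.map (MulAut.conj (e : G)).toMonoidHom = B := by
    intro e B hB
    have hBH : B ≤ cH z := big_le hB.1 (hB.2.2 (z_mem_zsub l))
    have hnorm : B ≤ Subgroup.normalizer (cE z : Set G) := by
      intro b hb
      rw [Subgroup.mem_normalizer_iff]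
      intro x
      refine ⟨fun hx => cE_conj (hBH hb) hx, fun hx => ?_⟩
      have := cE_conj (inv_mem (hBH hb)) hx
      rwa [show b⁻¹ * (b * x * b⁻¹) * b⁻¹⁻¹ = x by group] at this
    have hB2 : IsPGroup 2 ↥B := IsPGroup.of_card hB.2.1
    have hE2 : IsPGroup 2 ↥(cE z) := IsPGroup.of_card (cardE D.hJ)
    have hT : IsPGroup 2 ↥(B ⊔ cE z) := hB2.to_sup_of_normal_right' hE2 hnorm
    refine D.unique L (B := B.map (MulAut.conj (e : G)).toMonoidHom) ?_ hBH ?_ (big_sq hB.1) ?_ hB.2.1 hT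
      (sup_le hBH (cE_le z)) ?_ le_sup_left
    · rintro _ ⟨b, hb, rfl⟩
      exact mul_mem (mul_mem (cE_le z e.2) (hBH hb)) (inv_mem (cE_le z e.2))
    · exact big_sq (isElementary_map hB.1 _)
    · rw [← Nat.card_congr (Subgroup.equivMapOfInjective B _ (MulAut.conj (e : G)).injective).toEquiv, hB.2.1]
    · rintro _ ⟨b, hb, rfl⟩
      have h1 : (e : G) ∈ B ⊔ cE z := Subgroup.mem_sup_right e.2
      exact mul_mem (mul_mem h1 (Subgroup.mem_sup_left hb)) (inv_mem h1)
  by_contra hno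
  push Not at hno
  have hiso : R ≤ perpOf D.toJMod.β R := by
    intro u hu v hv
    obtain ⟨e, rfl⟩ := mk_surjective u
    obtain ⟨f, rfl⟩ := mk_surjective v
    exact pair_eq_zero.2 (Subtype.ext (hno e (hcent e hu) f (hcent f hv) (hfixB e) (hfixB f)))
  have h4 : Nat.card ↥(ptSub l) ≤ 4 := by
    have hsub : ((ptSub l : AddSubgroup (cV z)) : Set (cV z)) ⊆
        ({l.f.vec 0, l.f.vec 5, l.f.vec 10, l.f.vec 15} : Finset (cV z)) := by
      rintro v ⟨k, hk, rfl⟩
      simp only [List.mem_cons, List.not_mem_nil, or_false] at hk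
      rcases hk with rfl | rfl | rfl | rfl <;> simp
    refine le_trans ?_ (Finset.card_le_four (a := l.f.vec 0) (b := l.f.vec 5) (c := l.f.vec 10) (d := l.f.vec 15))
    rw [← Set.ncard_coe_finset, ← Nat.card_coe_set_eq]
    exact Set.ncard_le_ncard hsub (Set.toFinite _)
  have h1 := D.toJMod.perp (ptSub l)
  rw [← hR] at h1
  have h2 := D.toJMod.perp R
  have h3 := AddSubgroup.card_le_of_le hiso
  have hR' : 2 ^ 10 ≤ Nat.card ↥R := by
    have := Nat.mul_le_mul_right (Nat.card ↥R) h4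
    omega
  have := Nat.mul_le_mul hR' (hR'.trans h3)
  omega

/-- Everything needed by the abstract argument. -/
noncomputable def pentadHyp (S : Split56 G z l.T)
    (h5 : ∀ Q : Subgroup G, Nat.card ↥Q = 5 → Q ≤ cH z → FiveConcl G Q)
    (h7 : ∀ T : Subgroup G, Nat.card ↥T = 7 → SevenConcl G T) : PentadHyp G where
  Z := zsub l
  elem := zsub_elem l
  cardZ := card_zsub l
  card_cent := (aut_facts l hP hC S).2
  card_norm := card_normZ l hP hC
  five := fives l
  card_five := card_fives l hP hC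
  five_conj := fun g hg B hB => fives_conj l hg hB
  five_trans := fun B hB B' hB' => five_trans l hP hC S hB hB'
  five_fix := fun x hx B hB => by
    refine Subgroup.eq_of_le_of_card_ge ?_
      (Nat.card_congr (Subgroup.equivMapOfInjective B _ (MulAut.conj x).injective).toEquiv).le
    rintro _ ⟨b, hb, rfl⟩
    exact mul_mem (mul_mem (hB.2.2 hx) hb) (inv_mem (hB.2.2 hx))
  irred := fun a ha b hb ha1 hb1 => irred_all l ha hb ha1 hb1
  nonab := nonab l hP
  fiveQ := fun Q hQ hle => h5 Q hQ (hle.trans (cent_le_cH l))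
  sevenS := h7
  k2 := (aut_facts l hP hC S).1

end Cfsg.Agent.Lib.J4Pentad77
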