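import Cfsg.Agent.Lib.J4Pentad77.LocalMaps
import Cfsg.Agent.Lib.PGroup.Frattini

/-!
# The pentad two-local subgroup

From the data at the pentad centre: the kernel `L` of the actions on the five subgroups and on the centre
is special of order `2^15`, its normalizer is non-split with quotient `S₅ × L₃(2)` and contains the
normalizers of Sylow subgroups for five and seven.
-/

set_option autoImplicit false

universe u

namespace Cfsg.Agent.Lib.J4Pentad77

open Subgroup Cfsg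
open scoped Pointwise commutatorElement

variable {G : Type u} [Group G] [Finite G] {h : PentadHyp G} (m : Maps h)

theorem Maps.not_three_dvd_L : ¬ 3 ∣ Nat.card m.L := by
  intro h3
  haveI : Fact (Nat.Prime 3) := ⟨by norm_num⟩
  haveI : Fact (Nat.Prime 5) := ⟨by norm_num⟩
  obtain ⟨x, hx⟩ := exists_prime_orderOf_dvd_card' (G := ↥m.L) 3 h3
  set T : Subgroup G := zpowers (x : G) with hT
  have hT3 : Nat.card T = 3 := by rw [hT, Nat.card_zpowers, orderOf_coe, hx]
  have hTL : T ≤ m.L := by rw [hT, zpowers_le]; exact x.2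
  have h9 : ¬ 3 ^ 2 ∣ Nat.card m.L := fun hd => by
    have := hd.trans (card_dvd_of_le m.L_le_Cz)
    rw [h.card_cent] at this
    norm_num at this
  set K : Subgroup G := Cz h ⊓ normalizer (T : Set G) with hK
  have himg : m.img K = m.img (Cz h) := by
    refine le_antisymm (map_mono fun g hg => mem_subgroupOf.2 (mem_subgroupOf.1 hg).1) ?_
    rintro _ ⟨g, hg, rfl⟩
    obtain ⟨n, hn, hng⟩ := exists_mul_mem_normalizer hT3 hTL h9
      (m.Mz_le_normalizer_L g.2)
    refine ⟨⟨n, m.L_le_Mz hn⟩ * g,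
      mem_subgroupOf.2 ⟨mul_mem (m.L_le_Cz hn) (mem_subgroupOf.1 hg), hng⟩, ?_⟩
    rw [map_mul, ((m.mem_L (g := ⟨n, m.L_le_Mz hn⟩)).1 hn).1, one_mul]
  have h5 : 5 ∣ Nat.card K := by
    rw [m.card_img (K := K) inf_le_left, himg]
    exact m.five_dvd_img.mul_right _
  obtain ⟨y, hy⟩ := exists_prime_orderOf_dvd_card' (G := ↥K) 5 h5
  set Q : Subgroup G := zpowers (y : G) with hQ
  have hQ5 : Nat.card Q = 5 := by rw [hQ, Nat.card_zpowers, orderOf_coe, hy]
  have hQC : Q ≤ Cz h := by rw [hQ, zpowers_le]; exact y.2.1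
  have hQN : Q ≤ normalizer (T : Set G) := by rw [hQ, zpowers_le]; exact y.2.2
  have hmod := card_modEq_inf_centralizer (IsPGroup.of_card (n := 1) (by rw [hQ5, pow_one])) hQN
  rw [hT3] at hmod
  have hle : Nat.card ↥(T ⊓ centralizer (Q : Set G)) ≤ 3 := hT3 ▸ card_le_of_le inf_le_left
  unfold Nat.ModEq at hmod
  have h3' : Nat.card ↥(T ⊓ centralizer (Q : Set G)) = 3 := by omega
  have hdvd : Nat.card ↥(T ⊓ centralizer (Q : Set G)) ∣
      Nat.card ↥(Cz h ⊓ centralizer (Q : Set G)) :=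
    card_dvd_of_le (inf_le_inf_right _ (hTL.trans m.L_le_Cz))
  rw [h3', (m.fiveData hQ5 hQC).card_centC] at hdvd
  norm_num at hdvd

theorem Maps.img_Cz : m.img (Cz h) = ⊤ ∧ Nat.card m.L = 2 ^ 15 := by
  obtain ⟨Q, hQ5, hQC⟩ := m.exists_five
  have hc := m.card_img (le_refl (Cz h))
  rw [inf_eq_right.2 m.L_le_Cz, h.card_cent] at hc
  have h15 : 15 ∣ Nat.card (m.img (Cz h)) := by
    refine Nat.Coprime.dvd_of_dvd_mul_right ?_ (hc ▸ by norm_num : 15 ∣ Nat.card (m.img (Cz h)) * Nat.card m.L)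
    exact Nat.Coprime.mul_left (k := Nat.card m.L) (m := 3) (n := 5)
      ((Nat.Prime.coprime_iff_not_dvd (by norm_num)).2 m.not_three_dvd_L)
      ((Nat.Prime.coprime_iff_not_dvd (by norm_num)).2 m.five_not_dvd_L)
  have hle : m.img (Cz h ⊓ normalizer (Q : Set G)) ≤ m.img (Cz h) :=
    map_mono fun g hg => mem_subgroupOf.2 (mem_subgroupOf.1 hg).1
  have h20 : 20 ∣ Nat.card (m.img (Cz h)) := (m.fiveData hQ5 hQC).img_norm ▸ card_dvd_of_le hle
  have h60 : 60 ∣ Nat.card (m.img (Cz h)) := by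
    have := Nat.lcm_dvd h15 h20
    norm_num [Nat.lcm] at this ⊢
    exact this
  have htop := perm_five_eq_top (m.fiveData hQ5 hQC).img_norm hle h60
  refine ⟨htop, ?_⟩
  rw [htop, card_top, Nat.card_perm, Nat.card_fin, show Nat.factorial 5 = 120 from rfl] at hc
  omega

theorem Maps.isPGroup_L : IsPGroup 2 ↥m.L := IsPGroup.of_card m.img_Cz.2

theorem Maps.big_surj : Function.Surjective m.big := by
  rintro ⟨p, a⟩
  obtain ⟨g, rfl⟩ := m.phi_surj a
  have hp : p * (m.rho g)⁻¹ ∈ m.img (Cz h) := m.img_Cz.1 ▸ mem_top _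
  obtain ⟨c, hc, hcp⟩ := hp
  refine ⟨c * g, ?_⟩
  show (m.rho (c * g), m.phi (c * g)) = _
  rw [map_mul, map_mul, hcp, (m.phi_eq_one c).2 (mem_subgroupOf.1 hc), one_mul, inv_mul_cancel_right]

theorem Z_inf_cent {S : Subgroup G} (hS : Nat.card S = 7) (hSM : S ≤ Mz h) :
    h.Z ⊓ centralizer (S : Set G) = ⊥ := by
  haveI : Fact (Nat.Prime 7) := ⟨by norm_num⟩
  have hmod := card_modEq_inf_centralizer (X := h.Z)
    (IsPGroup.of_card (n := 1) (by rw [hS, pow_one])) hSM
  have hdvd := card_dvd_of_le (inf_le_left : h.Z ⊓ centralizer (S : Set G) ≤ h.Z)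
  rw [h.cardZ] at hmod hdvd
  have hle := Nat.le_of_dvd (by norm_num) hdvd
  unfold Nat.ModEq at hmod
  refine eq_bot_of_card_eq _ ?_
  by_contra hne
  have h8 : Nat.card ↥(h.Z ⊓ centralizer (S : Set G)) = 8 := by omega
  have heq : h.Z ⊓ centralizer (S : Set G) = h.Z := eq_of_le_of_card_ge inf_le_left (by rw [h8, h.cardZ])
  have hSC : S ≤ Cz h := fun s hs => mem_centralizer_iff.2 fun z hz =>
    ((mem_centralizer_iff.1 ((heq.ge hz).2)) s hs).symm
  have := card_dvd_of_le hSC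
  rw [hS, h.card_cent] at this
  norm_num at this

/-- A subgroup of order seven commuting with a subgroup of order five of the centralizer. -/
structure Pair where
  Q : Subgroup G
  S : Subgroup G
  cardQ : Nat.card Q = 5
  cardS : Nat.card S = 7
  QC : Q ≤ Cz h
  SQ : S ≤ centralizer (Q : Set G)

include m in
theorem nonempty_pair : Nonempty (Pair (h := h)) := by
  haveI : Fact (Nat.Prime 7) := ⟨by norm_num⟩
  obtain ⟨Q, hQ5, hQC⟩ := m.exists_five
  obtain ⟨x, hx⟩ := exists_prime_orderOf_dvd_card' (G := ↥(centralizer (Q : Set G))) 7 (by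
    rw [(m.fiveData hQ5 hQC).card_cent]; norm_num)
  exact ⟨⟨Q, zpowers (x : G), hQ5, by rw [Nat.card_zpowers, orderOf_coe, hx], hQC,
    by rw [zpowers_le]; exact x.2⟩⟩

variable (P : Pair (h := h))

include m in
theorem Pair.SM : P.S ≤ Mz h := P.SQ.trans (m.fiveData P.cardQ P.QC).cent_le

theorem Pair.L_inf_cent : m.L ⊓ centralizer (P.S : Set G) = ⊥ := by
  haveI : Fact (Nat.Prime 5) := ⟨by norm_num⟩
  obtain ⟨-, ⟨I, hI, ⟨eI⟩⟩, -, -⟩ := h.sevenS P.S P.cardS
  obtain ⟨-, hpow⟩ := idp_facts hI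
  have hQN : P.Q ≤ normalizer ((m.L ⊓ centralizer (P.S : Set G) : Subgroup G) : Set G) := by
    intro q hq
    have hqM : q ∈ Mz h := Cz_le_Mz h (P.QC hq)
    rw [mem_normalizer_iff_map_conj_eq]
    refine eq_of_le_of_card_ge ?_ (Nat.card_congr
      (equivMapOfInjective _ _ (MulAut.conj q).injective).toEquiv).le
    rintro _ ⟨x, ⟨hxL, hxS⟩, rfl⟩
    refine ⟨m.conj_L hqM hxL, mem_centralizer_iff.2 fun s hs => ?_⟩
    have h1 : s * q = q * s := ((mem_centralizer_iff.1 (P.SQ hs)) q hq).symm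
    have h1' : s * q⁻¹ = q⁻¹ * s := ((mem_centralizer_iff.1 (P.SQ hs)) q⁻¹ (inv_mem hq)).symm
    have h2 : s * x = x * s := mem_centralizer_iff.1 hxS s hs
    show s * (q * x * q⁻¹) = q * x * q⁻¹ * s
    calc s * (q * x * q⁻¹) = s * q * x * q⁻¹ := by group
      _ = q * (s * x) * q⁻¹ := by rw [h1]; group
      _ = q * x * (s * q⁻¹) := by rw [h2]; group
      _ = q * x * q⁻¹ * s := by rw [h1']; group
  have hmod := card_modEq_inf_centralizer (IsPGroup.of_card (n := 1) (by rw [P.cardQ, pow_one])) hQN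
  have hone : m.L ⊓ centralizer (P.S : Set G) ⊓ centralizer (P.Q : Set G) = ⊥ := by
    rw [inf_right_comm, (m.fiveData P.cardQ P.QC).inf_L, Z_inf_cent P.cardS (P.SM m)]
  rw [hone, card_bot] at hmod
  have hPI : m.L ⊓ centralizer (P.S : Set G) ≤ I := fun x hx => hpow x hx.2 (2 ^ 15) (by
    have := pow_card_eq_one' (x := (⟨x, hx.1⟩ : ↥m.L))
    rw [m.img_Cz.2] at this
    exact congrArg Subtype.val this) (by rw [P.cardS]; norm_num)
  have h120 := card_dvd_of_le hPI
  rw [Nat.card_congr eI.toEquiv, Nat.card_perm, Nat.card_fin, show Nat.factorial 5 = 120 from rfl] at h120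
  obtain ⟨k, hk⟩ := IsPGroup.iff_card.1 (m.isPGroup_L.to_le (inf_le_left :
    m.L ⊓ centralizer (P.S : Set G) ≤ m.L))
  refine eq_bot_of_card_eq _ ?_
  rw [hk] at hmod h120 ⊢
  have hk3 : k ≤ 3 := by
    by_contra hgt
    have : 2 ^ 4 ∣ 120 := (pow_dvd_pow 2 (by omega)).trans h120
    norm_num at this
  unfold Nat.ModEq at hmod
  interval_cases k <;> revert hmod <;> norm_num

include P in
/-- The possible invariant subgroups of `L`. -/
theorem Pair.trichotomy {X : Subgroup G} (hX : X ≤ m.L) (hn : Mz h ≤ normalizer (X : Set G)) :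
    ((X ⊓ h.Z = ⊥ ∧ (Nat.card X = 1 ∨ Nat.card X = 2 ^ 12)) ∨ (h.Z ≤ X ∧ (X = h.Z ∨ X = m.L))) := by
  haveI : Fact (Nat.Prime 5) := ⟨by norm_num⟩
  haveI : Fact (Nat.Prime 7) := ⟨by norm_num⟩
  have hS : IsPGroup 7 ↥P.S := IsPGroup.of_card (n := 1) (by rw [P.cardS, pow_one])
  have hSN : P.S ≤ normalizer (X : Set G) := (P.SM m).trans hn
  have h7 := card_modEq_inf_centralizer hS hSN
  rw [show X ⊓ centralizer (P.S : Set G) = ⊥ from
    le_bot_iff.1 ((inf_le_inf_right _ hX).trans (P.L_inf_cent m).le), card_bot] at h7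
  have h5 := card_modEq_inf_centralizer (X := X)
    (IsPGroup.of_card (n := 1) (by rw [P.cardQ, pow_one]) : IsPGroup 5 ↥P.Q)
    (((P.QC).trans (Cz_le_Mz h)).trans hn)
  have hXQ : X ⊓ centralizer (P.Q : Set G) = X ⊓ h.Z := by
    rw [← (m.fiveData P.cardQ P.QC).inf_L, ← inf_assoc, inf_eq_left.2 hX]
  rw [hXQ] at h5
  have hSN' : P.S ≤ normalizer ((X ⊓ h.Z : Subgroup G) : Set G) := by
    intro s hs
    rw [mem_normalizer_iff_map_conj_eq, map_inf _ _ _ (MulAut.conj s).injective,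
      mem_normalizer_iff_map_conj_eq.1 (hSN hs), mem_normalizer_iff_map_conj_eq.1 (P.SM m hs)]
  have h7' := card_modEq_inf_centralizer hS hSN'
  rw [inf_assoc, Z_inf_cent P.cardS (P.SM m), inf_bot_eq, card_bot] at h7'
  have hZd := card_dvd_of_le (inf_le_right : X ⊓ h.Z ≤ h.Z)
  rw [h.cardZ] at hZd
  obtain ⟨a, ha⟩ := IsPGroup.iff_card.1 (m.isPGroup_L.to_le hX)
  have ha15 : a ≤ 15 := by
    have h1 := card_dvd_of_le hX
    rw [ha, m.img_Cz.2] at h1
    exact (Nat.pow_dvd_pow_iff_le_right (by norm_num)).1 h1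
  have hcases : Nat.card ↥(X ⊓ h.Z) = 1 ∨ Nat.card ↥(X ⊓ h.Z) = 8 := by
    have hle := Nat.le_of_dvd (by norm_num) hZd
    unfold Nat.ModEq at h7'
    omega
  rw [ha] at h7 h5
  unfold Nat.ModEq at h7 h5
  rcases hcases with h1 | h8
  · refine Or.inl ⟨eq_bot_of_card_eq _ h1, ?_⟩
    rw [ha]
    rw [h1] at h5
    interval_cases a <;> revert h7 h5 <;> norm_num
  · have hZX : h.Z ≤ X :=
      (eq_of_le_of_card_ge (inf_le_right : X ⊓ h.Z ≤ h.Z) (by rw [h8, h.cardZ])).ge.trans inf_le_left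
    refine Or.inr ⟨hZX, ?_⟩
    rw [h8] at h5
    have : a = 3 ∨ a = 15 := by
      interval_cases a <;> revert h7 h5 <;> norm_num
    rcases this with rfl | rfl
    · exact Or.inl (eq_of_le_of_card_ge hZX (by rw [ha, h.cardZ]; norm_num)).symm
    · exact Or.inr (eq_of_le_of_card_ge hX (by rw [ha, m.img_Cz.2]))

theorem Maps.exists_nonab : ∃ a ∈ m.L, ∃ b ∈ m.L, a * b ≠ b * a := by
  obtain ⟨a, ha, b, hb, hfa, hfb, hab⟩ := h.nonab
  exact ⟨a, (m.mem_L (g := ⟨a, Cz_le_Mz h ha⟩)).2 ⟨(m.rho_eq_one _).2 hfa, ha⟩,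
    b, (m.mem_L (g := ⟨b, Cz_le_Mz h hb⟩)).2 ⟨(m.rho_eq_one _).2 hfb, hb⟩, hab⟩

theorem Maps.center_eq : (Subgroup.center ↥m.L).map m.L.subtype = h.Z := by
  obtain ⟨P⟩ := nonempty_pair m
  set X := (Subgroup.center ↥m.L).map m.L.subtype
  have hn : Mz h ≤ normalizer (X : Set G) :=
    m.Mz_le_normalizer_L.trans (normalizer_le_normalizer_char _)
  have hZX : h.Z ≤ X := fun z hz => ⟨⟨z, m.Z_le_L hz⟩, Subgroup.mem_center_iff.2 fun l =>
    Subtype.ext ((mem_centralizer_iff.1 (m.L_le_Cz l.2)) z hz).symm, rfl⟩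
  rcases P.trichotomy m (map_subtype_le _) hn with ⟨hb, -⟩ | ⟨-, hX | hX⟩
  · exfalso
    rw [inf_eq_right.2 hZX] at hb
    have := h.cardZ
    rw [hb, card_bot] at this
    omega
  · exact hX
  · exfalso
    obtain ⟨a, ha, b, hb, hab⟩ := m.exists_nonab
    obtain ⟨a', ha', rfl⟩ := hX.ge ha
    exact hab (congrArg Subtype.val (Subgroup.mem_center_iff.1 ha' ⟨b, hb⟩)).symm

theorem Maps.frattini_eq : (frattini ↥m.L).map m.L.subtype = h.Z ∧
    (commutator ↥m.L).map m.L.subtype = h.Z := by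
  haveI : Fact (Nat.Prime 2) := ⟨Nat.prime_two⟩
  obtain ⟨P⟩ := nonempty_pair m
  set D := (commutator ↥m.L).map m.L.subtype
  set F := (frattini ↥m.L).map m.L.subtype
  have hDF : D ≤ F := map_mono (PFrattini.commutator_le_frattini m.isPGroup_L)
  have hDn : Mz h ≤ normalizer (D : Set G) :=
    m.Mz_le_normalizer_L.trans (normalizer_le_normalizer_char _)
  have hFn : Mz h ≤ normalizer (F : Set G) :=
    m.Mz_le_normalizer_L.trans (normalizer_le_normalizer_char _)
  have hD1 : Nat.card D ≠ 1 := by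
    intro h1
    obtain ⟨a, ha, b, hb, hab⟩ := m.exists_nonab
    have hmem : ⁅(⟨a, ha⟩ : ↥m.L), ⟨b, hb⟩⁆ ∈ commutator ↥m.L :=
      _root_.commutator_def ↥m.L ▸ commutator_mem_commutator (mem_top _) (mem_top _)
    have h2 : m.L.subtype ⁅(⟨a, ha⟩ : ↥m.L), ⟨b, hb⟩⁆ ∈ D := mem_map_of_mem _ hmem
    rw [(Subgroup.eq_bot_of_card_eq D h1), mem_bot, map_commutatorElement,
      commutatorElement_eq_one_iff_mul_comm] at h2
    exact hab h2
  have hFne : F ≠ m.L := by
    intro hF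
    have htop : frattini ↥m.L = ⊤ := by
      apply map_injective m.L.subtype_injective
      show F = _
      rw [hF, ← MonoidHom.range_eq_map, range_subtype]
    haveI : Nontrivial ↥m.L := Finite.one_lt_card_iff_nontrivial.1 (by rw [m.img_Cz.2]; norm_num)
    obtain ⟨K, hK, -⟩ := (eq_top_or_exists_le_coatom (⊥ : Subgroup ↥m.L)).resolve_left bot_ne_top
    exact hK.1 (top_le_iff.1 (htop.ge.trans (frattini_le_coatom hK)))
  have hZD : h.Z ≤ D := by
    rcases P.trichotomy m (map_subtype_le _) hDn with ⟨hb, hcard⟩ | ⟨hle, -⟩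
    · exfalso
      have hmod := card_modEq_inf_centralizer (X := D) (Q := m.L) m.isPGroup_L
        (le_normalizer.trans (normalizer_le_normalizer_char _))
      have hc : D ⊓ centralizer (m.L : Set G) = ⊥ := by
        rw [← le_bot_iff, ← hb]
        rintro x ⟨hxD, hxC⟩
        refine ⟨hxD, ?_⟩
        rw [← m.center_eq]
        exact ⟨⟨x, map_subtype_le _ hxD⟩, Subgroup.mem_center_iff.2 fun l =>
          Subtype.ext (mem_centralizer_iff.1 hxC l l.2), rfl⟩
      rw [hc, card_bot] at hmod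
      rcases hcard with h' | h'
      · exact hD1 h'
      · rw [h'] at hmod
        norm_num [Nat.ModEq] at hmod
    · exact hle
  have hFZ : F = h.Z := by
    rcases P.trichotomy m (map_subtype_le _) hFn with ⟨hb, -⟩ | ⟨-, hX | hX⟩
    · exfalso
      rw [inf_eq_right.2 (hZD.trans hDF)] at hb
      have := h.cardZ
      rw [hb, card_bot] at this
      omega
    · exact hX
    · exact absurd hX hFne
  exact ⟨hFZ, le_antisymm (hDF.trans hFZ.le) hZD⟩

theorem Maps.isSpecial_L : Cfsg.IsSpecial 2 ↥m.L :=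
  ⟨m.isPGroup_L, map_injective m.L.subtype_injective (m.frattini_eq.1.trans m.center_eq.symm),
    map_injective m.L.subtype_injective (m.frattini_eq.2.trans m.center_eq.symm)⟩

theorem Maps.normalizer_L : normalizer (m.L : Set G) = Mz h := by
  refine le_antisymm ?_ m.Mz_le_normalizer_L
  have h1 := normalizer_le_normalizer_char (Subgroup.center ↥m.L)
  rwa [m.center_eq] at h1

include m in
theorem Maps.normalizer_seven : normalizer ((P.S : Subgroup G) : Set G) ≤ Mz h := by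
  haveI : Fact (Nat.Prime 7) := ⟨by norm_num⟩
  haveI := SixRec90.isSimple_sl32
  obtain ⟨h49, -, -, hN⟩ := h.sevenS P.S P.cardS
  set S' : Subgroup ↥(Mz h) := P.S.subgroupOf (Mz h) with hS'
  have hS'7 : Nat.card S' = 7 := by
    rw [hS', Nat.card_congr (subgroupOfEquivOfLe (P.SM m)).toEquiv, P.cardS]
  have hrho : ∀ s ∈ S', m.rho s = 1 := by
    intro s hs
    have h1 : s ^ 7 = 1 := by
      rw [← hS'7]; exact congrArg Subtype.val (pow_card_eq_one' (x := (⟨s, hs⟩ : ↥S')))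
    have h2 : orderOf (m.rho s) ∣ Nat.gcd 7 120 := Nat.dvd_gcd
      (orderOf_dvd_of_pow_eq_one (by rw [← map_pow, h1, map_one]))
      (by
        have := orderOf_dvd_natCard (m.rho s)
        rwa [Nat.card_perm, Nat.card_fin] at this)
    norm_num at h2
    exact h2
  set T : Subgroup SL32 := S'.map m.phi with hT
  have hT7 : Nat.card T = 7 := by
    have hinj : Function.Injective (m.phi.comp S'.subtype) := by
      intro x y hxy
      have h1 : m.phi (x.1 * y.1⁻¹) = 1 := by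
        rw [map_mul, map_inv, show m.phi x.1 = m.phi y.1 from hxy, mul_inv_cancel]
      have h2 : x.1 * y.1⁻¹ ∈ S' := mul_mem x.2 (inv_mem y.2)
      have h3 := (m.mem_L (g := x.1 * y.1⁻¹)).2 ⟨hrho _ h2, (m.phi_eq_one _).1 h1⟩
      have h4 : ((x.1 * y.1⁻¹ : ↥(Mz h)) : G) ∈ P.S ⊓ m.L := ⟨h2, h3⟩
      rw [inf_eq_bot_of_coprime (by rw [P.cardS, m.img_Cz.2]; norm_num), mem_bot] at h4
      exact Subtype.ext (mul_inv_eq_one.1 (Subtype.ext h4))
    rw [← hS'7, Nat.card_congr (MonoidHom.ofInjective hinj).toEquiv, MonoidHom.range_comp,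
      range_subtype]
  set U : Subgroup ↥(Mz h) := S' ⊔ m.big.ker with hU
  have hU' : U = (S'.map m.big).comap m.big := by
    rw [hU, comap_map_eq]
  have hU49 : ¬ 7 ^ 2 ∣ Nat.card U := fun hd => h49 (by
    have := hd.trans ((card_subgroup_dvd_card U).trans (card_subgroup_dvd_card (Mz h)))
    norm_num at this ⊢
    exact this)
  have himg : ∀ (p : Equiv.Perm (Fin 5)), ∀ n ∈ normalizer (T : Set SL32),
      ∃ g : ↥(Mz h), g ∈ normalizer (S' : Set ↥(Mz h)) ∧ m.big g = (p, n) := by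
    intro p n hn
    obtain ⟨g, hg⟩ := m.big_surj (p, n)
    have hgU : g ∈ normalizer (U : Set ↥(Mz h)) := by
      rw [mem_normalizer_iff_map_conj_eq]
      refine eq_of_le_of_card_ge ?_ (Nat.card_congr
        (equivMapOfInjective U _ (MulAut.conj g).injective).toEquiv).le
      rintro _ ⟨x, hx, rfl⟩
      rw [SetLike.mem_coe, hU', mem_comap] at hx
      rw [hU', mem_comap]
      obtain ⟨s, hs, hsx⟩ := hx
      have h2 : n * m.phi s * n⁻¹ ∈ T :=
        (mem_normalizer_iff_map_conj_eq.1 hn).le ⟨m.phi s, ⟨s, hs, rfl⟩, rfl⟩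
      obtain ⟨s', hs', hs'e⟩ := h2
      refine ⟨s', hs', ?_⟩
      show m.big s' = m.big (g * x * g⁻¹)
      rw [map_mul, map_mul, map_inv, hg, ← hsx]
      show (m.rho s', m.phi s') = (p * m.rho s * p⁻¹, n * m.phi s * n⁻¹)
      rw [hrho s hs, hrho s' hs', hs'e, mul_one, mul_inv_cancel]
    obtain ⟨u, hu, hug⟩ := exists_mul_mem_normalizer hS'7 le_sup_left
      hU49 hgU
    rw [← comap_map_eq, mem_comap] at hu
    obtain ⟨s, hs, hsu⟩ := hu
    refine ⟨s⁻¹ * (u * g), mul_mem (le_normalizer (inv_mem hs)) hug, ?_⟩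
    rw [map_mul, map_mul, map_inv, hsu, hg, inv_mul_cancel_left]
  have hge : 2520 ≤ Nat.card ↥(normalizer (S' : Set ↥(Mz h))) := by
    choose g hg using himg
    refine le_trans ?_ (Nat.card_le_card_of_injective
      (fun pn : Equiv.Perm (Fin 5) × ↥(normalizer (T : Set SL32)) =>
        (⟨g pn.1 pn.2.1 pn.2.2, (hg _ _ _).1⟩ : ↥(normalizer (S' : Set ↥(Mz h))))) ?_)
    · rw [Nat.card_prod, Nat.card_perm, Nat.card_fin, card_normalizer_seven card_SL32 hT7]
      exact le_of_eq rfl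
    · rintro ⟨p, n⟩ ⟨p', n'⟩ he
      have h1 := congrArg (fun z : ↥(normalizer (S' : Set ↥(Mz h))) => m.big z.1) he
      simp only [(hg _ _ _).2, Prod.mk.injEq] at h1
      exact Prod.ext h1.1 (Subtype.ext h1.2)
  have hmap : (normalizer (S' : Set ↥(Mz h))).map (Mz h).subtype ≤ normalizer (P.S : Set G) := by
    rintro _ ⟨g, hg, rfl⟩
    rw [mem_normalizer_iff_map_conj_eq]
    refine eq_of_le_of_card_ge ?_ (Nat.card_congr
      (equivMapOfInjective P.S _ (MulAut.conj _).injective).toEquiv).le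
    rintro _ ⟨s, hs, rfl⟩
    exact (mem_normalizer_iff_map_conj_eq.1 hg).le ⟨⟨s, P.SM m hs⟩, mem_subgroupOf.2 hs, rfl⟩
  have heq : (normalizer (S' : Set ↥(Mz h))).map (Mz h).subtype = normalizer (P.S : Set G) := by
    refine eq_of_le_of_card_ge hmap ?_
    rw [hN, card_map_of_injective (Mz h).subtype_injective]
    exact hge
  exact heq ▸ map_subtype_le _

/-- The pentad two-local subgroup. -/
theorem concl {G : Type u} [Group G] [Finite G] (h : PentadHyp G) : PentadConcl G := by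
  obtain ⟨m⟩ := nonempty_maps h
  obtain ⟨P⟩ := nonempty_pair m
  have hN := m.normalizer_L
  haveI : Fact (Nat.Prime 5) := ⟨by norm_num⟩
  haveI : Fact (Nat.Prime 7) := ⟨by norm_num⟩
  refine ⟨m.L, m.isSpecial_L, m.img_Cz.2, ?_, ?_⟩
  · rw [← card_map_of_injective m.L.subtype_injective, m.center_eq, h.cardZ]
  let Ψ : ↥(normalizer (m.L : Set G)) →* Equiv.Perm (Fin 5) × SL32 :=
    m.big.comp (inclusion hN.le)
  have hsurj : Function.Surjective Ψ := m.big_surj.comp
    fun g => ⟨⟨g.1, hN.ge g.2⟩, rfl⟩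
  have hker : Ψ.ker = m.L.subgroupOf (normalizer (m.L : Set G)) := by
    ext g
    rw [MonoidHom.mem_ker, mem_subgroupOf]
    constructor
    · intro hg
      exact ⟨inclusion hN.le g, hg, rfl⟩
    · rintro ⟨y, hy, hye⟩
      rw [show y = inclusion hN.le g from Subtype.ext hye] at hy
      exact hy
  refine ⟨⟨(QuotientGroup.quotientMulEquivOfEq hker.symm).trans
    (QuotientGroup.quotientKerEquivOfSurjective Ψ hsurj)⟩, fun K hK => ?_, ?_, ?_, ?_, ?_⟩
  · rw [← hker] at hK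
    have hbij : Function.Bijective (Ψ.comp K.subtype) := by
      refine ⟨?_, ?_⟩
      · rw [injective_iff_map_eq_one]
        intro x hx
        have h1 : (x : ↥(normalizer (m.L : Set G))) ∈ Ψ.ker ⊓ K := ⟨hx, x.2⟩
        rw [disjoint_iff.1 hK.disjoint, mem_bot] at h1
        exact Subtype.ext h1
      · intro y
        obtain ⟨g, rfl⟩ := hsurj y
        obtain ⟨⟨l, k⟩, hlk⟩ := hK.2 g
        refine ⟨k, ?_⟩
        show Ψ (k : ↥(normalizer (m.L : Set G))) = Ψ g
        rw [← hlk, map_mul, show Ψ (l : ↥(normalizer (m.L : Set G))) = 1 from l.2, one_mul]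
    let e := MulEquiv.ofBijective _ hbij
    let j : Equiv.Perm (Fin 5) × SL32 →* G :=
      (normalizer (m.L : Set G)).subtype.comp (K.subtype.comp e.symm.toMonoidHom)
    have hj : Function.Injective j :=
      (normalizer (m.L : Set G)).subtype_injective.comp
        (K.subtype_injective.comp e.symm.injective)
    have hjM : ∀ y, j y ∈ Mz h := fun y => hN.le (K.subtype (e.symm y)).2
    have hbig : ∀ y, m.big ⟨j y, hjM y⟩ = y := fun y => e.apply_symm_apply y
    let q : Equiv.Perm (Fin 5) × SL32 := (finRotate 5, 1)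
    have hq : orderOf (j q) = 5 := by
      rw [orderOf_injective j hj, Prod.orderOf, orderOf_one, Nat.lcm_one_right]
      exact orderOf_eq_prime (by decide) (by decide)
    have hqC : j q ∈ Cz h := (m.phi_eq_one ⟨j q, hjM q⟩).1 (congrArg Prod.snd (hbig q))
    let K2 : Subgroup G := (j.comp (MonoidHom.inr _ _)).range
    have hinr : Function.Injective (j.comp (MonoidHom.inr (Equiv.Perm (Fin 5)) SL32)) :=
      hj.comp fun a b hab => congrArg Prod.snd hab
    refine (m.fiveData (Q := zpowers (j q)) (by rw [Nat.card_zpowers, hq]) (by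
      rw [zpowers_le]; exact hqC)).nonsplit K2 ?_ ?_ ?_
    · rintro _ ⟨a, rfl⟩
      rw [mem_centralizer_iff]
      rintro _ ⟨i, rfl⟩
      show j q ^ i * j (1, a) = j (1, a) * j q ^ i
      rw [← map_zpow, ← map_mul, ← map_mul]
      congr 1
      exact Prod.ext (by simp [q]) (by simp [q])
    · rw [← Nat.card_congr (MonoidHom.ofInjective hinr).toEquiv, card_SL32]
    · rw [eq_bot_iff]
      rintro x ⟨⟨a, rfl⟩, hx⟩
      have h1 := (m.mem_L (g := ⟨j (1, a), hjM _⟩)).1 (m.Z_le_L hx)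
      have h2 := (m.phi_eq_one ⟨j (1, a), hjM _⟩).2 h1.2
      rw [show m.phi ⟨j (1, a), hjM _⟩ = a from congrArg Prod.snd (hbig (1, a))] at h2
      rw [h2, map_one]
      exact one_mem _
  · obtain ⟨-, ⟨I, hI, ⟨eI⟩⟩, -, -⟩ := h.sevenS P.S P.cardS
    refine ⟨I, ?_, ⟨eI⟩⟩
    rw [hN]
    exact hI.2.1.trans ((centralizer_le_normalizer _).trans (m.normalizer_seven P))
  · obtain ⟨K, hK, he⟩ := h.k2
    exact ⟨K, hN.ge.trans' hK, he⟩
  · have h25 := (h.fiveQ P.Q P.cardQ P.QC).1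
    refine ⟨(IsPGroup.of_card (n := 1) (by rw [P.cardQ, pow_one]) : IsPGroup 5 ↥P.Q).toSylow
      (fun hd => h25 ?_), ?_⟩
    · rw [← P.Q.card_mul_index, P.cardQ]
      exact mul_dvd_mul_left 5 hd
    · rw [hN]
      exact (m.fiveData P.cardQ P.QC).norm_le
  · have h49 := (h.sevenS P.S P.cardS).1
    refine ⟨(IsPGroup.of_card (n := 1) (by rw [P.cardS, pow_one]) : IsPGroup 7 ↥P.S).toSylow
      (fun hd => h49 ?_), ?_⟩
    · rw [← P.S.card_mul_index, P.cardS]
      exact mul_dvd_mul_left 7 hd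
    · rw [hN]
      exact m.normalizer_seven P

end Cfsg.Agent.Lib.J4Pentad77
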