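import Cfsg.Agent.Lib.J4Pentad77.Spec
import Cfsg.Agent.Lib.J4Pentad77.LocalBase
import Cfsg.Agent.Lib.S3344.Quotient168
import Cfsg.Agent.Lib.SixRec90.Main

/-!
# The two actions of the pentad subgroup and the local structure at five
-/

set_option autoImplicit false

universe u

namespace Cfsg.Agent.Lib.J4Pentad77

open Subgroup Cfsg
open scoped Pointwise

/-- The group `SL₃(2)`. -/
abbrev SL32 := Matrix.SpecialLinearGroup (Fin 3) (ZMod 2)

theorem card_SL32 : Nat.card SL32 = 168 := S3344.card_sl32_q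

variable {G : Type u} [Group G] [Finite G]

theorem map_conj_conj (B : Subgroup G) (g g' : G) :
    (B.map (MulAut.conj g').toMonoidHom).map (MulAut.conj g).toMonoidHom =
      B.map (MulAut.conj (g * g')).toMonoidHom := by
  rw [map_map]
  congr 1
  ext x
  simp [mul_assoc]

theorem map_conj_one (B : Subgroup G) : B.map (MulAut.conj (1 : G)).toMonoidHom = B := by
  rw [show (MulAut.conj (1 : G)).toMonoidHom = MonoidHom.id G from MonoidHom.ext fun x => by simp,
    map_id]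

variable (h : PentadHyp G)

/-- The normalizer of the pentad centre. -/
abbrev Mz : Subgroup G := normalizer (h.Z : Set G)

/-- The centralizer of the pentad centre. -/
abbrev Cz : Subgroup G := centralizer (h.Z : Set G)

theorem Cz_le_Mz : Cz h ≤ Mz h := centralizer_le_normalizer _

/-- The actions on the five subgroups and on the centre. -/
structure Maps where
  rho : ↥(Mz h) →* Equiv.Perm (Fin 5)
  phi : ↥(Mz h) →* SL32
  rho_eq_one : ∀ g : ↥(Mz h), rho g = 1 ↔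
    ∀ B ∈ h.five, B.map (MulAut.conj (g : G)).toMonoidHom = B
  rho_trans : ∀ i j, ∃ g : ↥(Mz h), (g : G) ∈ Cz h ∧ rho g i = j
  phi_eq_one : ∀ g : ↥(Mz h), phi g = 1 ↔ (g : G) ∈ Cz h
  phi_surj : Function.Surjective phi

theorem nonempty_maps : Nonempty (Maps h) := by
  classical
  obtain ⟨e⟩ : Nonempty (↥h.five ≃ Fin 5) := by
    have hc : Nat.card ↥h.five = 5 := by rw [Nat.card_coe_set_eq, h.card_five]
    haveI := Nat.finite_of_card_ne_zero (show Nat.card ↥h.five ≠ 0 by omega)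
    exact ⟨Finite.equivFinOfCardEq hc⟩
  let act : ↥(Mz h) →* Equiv.Perm ↥h.five :=
    { toFun := fun g =>
        { toFun := fun B => ⟨B.1.map (MulAut.conj (g : G)).toMonoidHom, h.five_conj g g.2 B.1 B.2⟩
          invFun := fun B => ⟨B.1.map (MulAut.conj ((g⁻¹ : ↥(Mz h)) : G)).toMonoidHom,
            h.five_conj _ (g⁻¹).2 B.1 B.2⟩
          left_inv := fun B => Subtype.ext (by
            simp only [map_conj_conj, InvMemClass.coe_inv, inv_mul_cancel, map_conj_one])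
          right_inv := fun B => Subtype.ext (by
            simp only [map_conj_conj, InvMemClass.coe_inv, mul_inv_cancel, map_conj_one]) }
      map_one' := Equiv.ext fun B => Subtype.ext (map_conj_one B.1)
      map_mul' := fun g g' => Equiv.ext fun B => Subtype.ext (map_conj_conj B.1 g g').symm }
  have hsq : ∀ u : ↥h.Z, u * u = 1 := fun u => Subtype.ext (by
    rw [Subgroup.coe_mul, ← pow_two]; exact h.elem.2 u u.2)
  haveI := h.elem.1
  obtain ⟨w⟩ := S3344.mulAut_equiv_sl32 h.cardZ hsq fun u v => mul_comm' u v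
  let psi : ↥(Mz h) →* SL32 := w.toMonoidHom.comp h.Z.normalizerMonoidHom
  have hker : psi.ker = (Cz h).subgroupOf (Mz h) := by
    have h1 : psi.ker = h.Z.normalizerMonoidHom.ker :=
      MonoidHom.ker_mulEquiv_comp _ w
    rw [h1, normalizerMonoidHom_ker]
  refine ⟨{
    rho := e.permCongrHom.toMonoidHom.comp act
    phi := psi
    rho_eq_one := fun g => ?_
    rho_trans := fun i j => ?_
    phi_eq_one := fun g => by rw [← MonoidHom.mem_ker, hker, mem_subgroupOf]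
    phi_surj := ?_ }⟩
  · rw [MonoidHom.comp_apply]
    refine (map_eq_one_iff _ e.permCongrHom.injective).trans ⟨fun hg B hB => ?_, fun hg => ?_⟩
    · exact congrArg Subtype.val (Equiv.ext_iff.1 hg ⟨B, hB⟩)
    · exact Equiv.ext fun B => Subtype.ext (hg B.1 B.2)
  · obtain ⟨c, hc, hcB⟩ := h.five_trans (e.symm i).1 (e.symm i).2 (e.symm j).1 (e.symm j).2
    refine ⟨⟨c, Cz_le_Mz h hc⟩, hc, ?_⟩
    show e (act ⟨c, Cz_le_Mz h hc⟩ (e.symm i)) = j
    rw [show act ⟨c, Cz_le_Mz h hc⟩ (e.symm i) = e.symm j from Subtype.ext hcB, e.apply_symm_apply]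
  · rw [← MonoidHom.range_eq_top]
    apply eq_top_of_card_eq
    have h1 := psi.ker.card_mul_index
    rw [index_ker, hker, Nat.card_congr (subgroupOfEquivOfLe (Cz_le_Mz h)).toEquiv, h.card_cent,
      show Nat.card ↥(Mz h) = 2 ^ 15 * 120 * 168 from h.card_norm] at h1
    rw [card_SL32]
    omega

variable {h} (m : Maps h)

/-- The combined map. -/
def Maps.big : ↥(Mz h) →* Equiv.Perm (Fin 5) × SL32 := m.rho.prod m.phi

/-- The two-subgroup. -/
def Maps.L : Subgroup G := m.big.ker.map (Mz h).subtype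

theorem Maps.mem_L {g : ↥(Mz h)} : (g : G) ∈ m.L ↔ m.rho g = 1 ∧ (g : G) ∈ Cz h := by
  rw [Maps.L, show (g : G) = (Mz h).subtype g from rfl, mem_map_iff_mem (Mz h).subtype_injective,
    MonoidHom.mem_ker, Maps.big, MonoidHom.prod_apply, Prod.mk_eq_one, m.phi_eq_one]
  rfl

theorem Maps.L_le_Mz : m.L ≤ Mz h := map_subtype_le _

theorem Maps.L_le_Cz : m.L ≤ Cz h := fun g hg => ((m.mem_L (g := ⟨g, m.L_le_Mz hg⟩)).1 hg).2

theorem Maps.conj_L {g x : G} (hg : g ∈ Mz h) (hx : x ∈ m.L) : g * x * g⁻¹ ∈ m.L := by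
  obtain ⟨y, hy, rfl⟩ := hx
  exact ⟨⟨g, hg⟩ * y * (⟨g, hg⟩)⁻¹, m.big.normal_ker.conj_mem y hy ⟨g, hg⟩, rfl⟩

theorem Maps.Mz_le_normalizer_L : Mz h ≤ normalizer (m.L : Set G) := by
  intro g hg
  rw [mem_normalizer_iff_map_conj_eq]
  refine le_antisymm ?_ fun x hx => ⟨g⁻¹ * x * g, ?_, ?_⟩
  · rintro _ ⟨x, hx, rfl⟩
    exact m.conj_L hg hx
  · simpa using m.conj_L (inv_mem hg) hx
  · show g * (g⁻¹ * x * g) * g⁻¹ = x
    simp [mul_assoc]

theorem Z_le_Cz : h.Z ≤ Cz h := fun z hz => mem_centralizer_iff.2 fun y hy => by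
  haveI := h.elem.1
  exact congrArg Subtype.val (mul_comm' (⟨y, hy⟩ : ↥h.Z) ⟨z, hz⟩)

theorem Maps.Z_le_L : h.Z ≤ m.L := fun z hz =>
  (m.mem_L (g := ⟨z, Cz_le_Mz h (Z_le_Cz hz)⟩)).2
    ⟨(m.rho_eq_one _).2 (h.five_fix z hz), Z_le_Cz hz⟩

theorem Maps.phi_ker_map : m.phi.ker.map (Mz h).subtype = Cz h := by
  ext g
  constructor
  · rintro ⟨y, hy, rfl⟩
    exact (m.phi_eq_one y).1 hy
  · intro hg
    exact ⟨⟨g, Cz_le_Mz h hg⟩, (m.phi_eq_one _).2 hg, rfl⟩

theorem Maps.inf_rho_ker {K : Subgroup G} (hK : K ≤ Cz h) :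
    K ⊓ m.rho.ker.map (Mz h).subtype = K ⊓ m.L := by
  ext g
  constructor
  · rintro ⟨hg, y, hy, rfl⟩
    exact ⟨hg, m.mem_L.2 ⟨hy, hK hg⟩⟩
  · rintro ⟨hg, hgL⟩
    exact ⟨hg, ⟨g, m.L_le_Mz hgL⟩, ((m.mem_L (g := ⟨g, m.L_le_Mz hgL⟩)).1 hgL).1, rfl⟩

/-- The image of a subgroup of the centralizer on the five points. -/
def Maps.img (K : Subgroup G) : Subgroup (Equiv.Perm (Fin 5)) := (K.subgroupOf (Mz h)).map m.rho

theorem Maps.card_img {K : Subgroup G} (hK : K ≤ Cz h) :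
    Nat.card K = Nat.card (m.img K) * Nat.card ↥(K ⊓ m.L) := by
  rw [card_eq_image_mul (hK.trans (Cz_le_Mz h)) m.rho, m.inf_rho_ker hK]
  rfl

theorem Maps.five_dvd_img : 5 ∣ Nat.card (m.img (Cz h)) := by
  haveI : MulAction.IsPretransitive ↥(m.img (Cz h)) (Fin 5) := by
    refine ⟨fun i j => ?_⟩
    obtain ⟨g, hg, hij⟩ := m.rho_trans i j
    exact ⟨⟨m.rho g, g, mem_subgroupOf.2 hg, rfl⟩, hij⟩
  have h1 := (MulAction.stabilizer ↥(m.img (Cz h)) (0 : Fin 5)).index_dvd_card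
  rwa [MulAction.index_stabilizer_of_transitive, Nat.card_fin] at h1

theorem Maps.five_not_dvd_L : ¬ 5 ∣ Nat.card m.L := by
  intro h5
  have h1 := m.card_img (le_refl (Cz h))
  rw [inf_eq_right.2 m.L_le_Cz, h.card_cent] at h1
  have h25 := mul_dvd_mul m.five_dvd_img h5
  rw [← h1] at h25
  norm_num at h25

include m in
theorem Maps.exists_five : ∃ Q : Subgroup G, Nat.card Q = 5 ∧ Q ≤ Cz h := by
  haveI : Fact (Nat.Prime 5) := ⟨by norm_num⟩
  obtain ⟨x, hx⟩ := exists_prime_orderOf_dvd_card' (G := ↥(Cz h)) 5 (by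
    rw [h.card_cent]; norm_num)
  refine ⟨zpowers (x : G), by rw [Nat.card_zpowers, orderOf_coe, hx], ?_⟩
  rw [zpowers_le]
  exact x.2

/-- The facts at a subgroup of order five of the centralizer. -/
structure FiveData (Q : Subgroup G) : Prop where
  card_cent : Nat.card ↥(centralizer (Q : Set G)) = 6720
  cent_le : centralizer (Q : Set G) ≤ Mz h
  norm_le : normalizer (Q : Set G) ≤ Mz h
  card_centC : Nat.card ↥(Cz h ⊓ centralizer (Q : Set G)) = 40
  inf_L : m.L ⊓ centralizer (Q : Set G) = h.Z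
  img_norm : Nat.card (m.img (Cz h ⊓ normalizer (Q : Set G))) = 20
  nonsplit : ∀ K : Subgroup G, K ≤ centralizer (Q : Set G) → Nat.card K = 168 → K ⊓ h.Z ≠ ⊥

theorem Maps.fiveData {Q : Subgroup G} (hQ5 : Nat.card Q = 5) (hQC : Q ≤ Cz h) :
    FiveData m Q := by
  haveI : Fact (Nat.Prime 5) := ⟨by norm_num⟩
  haveI : IsCyclic ↥Q := isCyclic_of_prime_card hQ5
  obtain ⟨h25, ⟨J, hJ, E, hE, -, hE8, ⟨eJ⟩, hns⟩, -, hN⟩ := h.fiveQ Q hQ5 hQC
  obtain ⟨hcard, hpow⟩ := idp_facts hJ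
  have hJ168 : Nat.card ↥J = 1344 := by
    rw [Subgroup.card_eq_card_quotient_mul_card_subgroup E, Nat.card_congr eJ.toEquiv, card_SL32, hE8]
  have hF : Nat.card ↥(centralizer (Q : Set G)) = 6720 := by rw [hcard, hQ5, hJ168]
  have hC25 : ¬ 5 ^ 2 ∣ Nat.card ↥(Cz h) := fun hd =>
    h25 (dvd_trans (by norm_num at hd ⊢; exact hd) (card_subgroup_dvd_card (Cz h)))
  have hCnorm : Mz h ≤ normalizer ((Cz h : Subgroup G) : Set G) := by
    intro g hg
    rw [mem_normalizer_iff_map_conj_eq, ← m.phi_ker_map, map_map]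
    have hn : m.phi.ker.map (MulAut.conj (⟨g, hg⟩ : ↥(Mz h))).toMonoidHom = m.phi.ker := by
      apply le_antisymm
      · rintro _ ⟨x, hx, rfl⟩
        exact m.phi.normal_ker.conj_mem x hx _
      · intro x hx
        refine ⟨(⟨g, hg⟩ : ↥(Mz h))⁻¹ * x * ⟨g, hg⟩, ?_, ?_⟩
        · simpa using m.phi.normal_ker.conj_mem x hx (⟨g, hg⟩ : ↥(Mz h))⁻¹
        · simp [mul_assoc]
    conv_rhs => rw [← hn, map_map]
    rfl
  -- every element of `SL₃(2)` is induced from the centralizer of `Q`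
  set F : Subgroup G := centralizer (Q : Set G) ⊓ Mz h with hFdef
  haveI := SixRec90.isSimple_sl32
  have himg : (F.subgroupOf (Mz h)).map m.phi = ⊤ := by
    refine eq_top_of_commutators (by rw [card_SL32]; norm_num) fun a b => ?_
    have key : ∀ a : SL32, ∃ x : ↥(Mz h), m.phi x = a ∧ (x : G) ∈ normalizer (Q : Set G) := by
      intro a
      obtain ⟨g, rfl⟩ := m.phi_surj a
      obtain ⟨n, hn, hng⟩ := exists_mul_mem_normalizer hQ5 hQC hC25 (hCnorm g.2)
      refine ⟨⟨n, Cz_le_Mz h hn⟩ * g, ?_, hng⟩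
      rw [map_mul, (m.phi_eq_one ⟨n, Cz_le_Mz h hn⟩).2 hn, one_mul]
    obtain ⟨x, rfl, hx⟩ := key a
    obtain ⟨y, rfl, hy⟩ := key b
    exact ⟨x * y * x⁻¹ * y⁻¹,
      mem_subgroupOf.2 ⟨commutator_mem_centralizer hx hy, (x * y * x⁻¹ * y⁻¹).2⟩, by simp⟩
  have hFc := card_eq_image_mul (K := F) inf_le_right m.phi
  rw [himg, card_top, card_SL32, m.phi_ker_map] at hFc
  have hFC : F ⊓ Cz h = Cz h ⊓ centralizer (Q : Set G) := by
    rw [hFdef, inf_comm, ← inf_assoc, inf_eq_left.2 (inf_le_left.trans (Cz_le_Mz h))]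
  rw [hFC] at hFc
  have hQself : Q ≤ centralizer (Q : Set G) := le_centralizer Q
  have h40 : 40 ∣ Nat.card ↥(Cz h ⊓ centralizer (Q : Set G)) := by
    have hQ' : Q ≤ Cz h ⊓ centralizer (Q : Set G) := le_inf hQC hQself
    have hZ' : h.Z ≤ Cz h ⊓ centralizer (Q : Set G) := le_inf Z_le_Cz fun z hz =>
      mem_centralizer_iff.2 fun q hq => ((mem_centralizer_iff.1 (hQC hq)) z hz).symm
    have h1 := card_dvd_of_le hQ'
    have h2 := card_dvd_of_le hZ'
    rw [hQ5] at h1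
    rw [h.cardZ] at h2
    exact Nat.Coprime.mul_dvd_of_dvd_of_dvd (m := 5) (n := 8) (by norm_num) h1 h2
  have hFle : Nat.card F ≤ 6720 := hF ▸ card_le_of_le inf_le_left
  have hx40 : Nat.card ↥(Cz h ⊓ centralizer (Q : Set G)) = 40 := by
    have := Nat.le_of_dvd Nat.card_pos h40
    omega
  have hFM : centralizer (Q : Set G) ≤ Mz h := by
    have : F = centralizer (Q : Set G) := eq_of_le_of_card_ge inf_le_left (by omega)
    exact this ▸ inf_le_right
  have hcop : ∀ x : G, x ∈ centralizer (Q : Set G) → ∀ n : ℕ, x ^ n = 1 → ¬ 5 ∣ n → x ∈ J :=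
    fun x hx n hn h5 => hpow x hx n hn (by
      rw [hQ5]; exact ((Nat.Prime.coprime_iff_not_dvd (by norm_num)).2 h5).symm)
  have hW : ∀ W : Subgroup G, W ≤ centralizer (Q : Set G) → Nat.card W = 8 →
      (∀ f ∈ centralizer (Q : Set G), ∀ w ∈ W, f * w * f⁻¹ ∈ W) → W = E.map J.subtype := by
    intro W hWF hW8 hWn
    have hWJ : W ≤ J := fun w hw => hcop w (hWF hw) 8 (by
      rw [← hW8]; exact congrArg Subtype.val (pow_card_eq_one' (x := (⟨w, hw⟩ : ↥W)))) (by norm_num)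
    have hn : (W.subgroupOf J).Normal := ⟨fun w hw j =>
      mem_subgroupOf.2 (hWn j (hJ.2.1 j.2) w (mem_subgroupOf.1 hw))⟩
    have hWJ8 : Nat.card (W.subgroupOf J) = 8 := by
      rw [Nat.card_congr (subgroupOfEquivOfLe hWJ).toEquiv, hW8]
    haveI : IsSimpleGroup (↥J ⧸ E) := eJ.isSimpleGroup
    have hle : W.subgroupOf J ≤ E := by
      rcases (hn.map (QuotientGroup.mk' E) (QuotientGroup.mk'_surjective E)).eq_bot_or_eq_top with e | e
      · rw [Subgroup.map_eq_bot_iff, QuotientGroup.ker_mk'] at e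
        exact e
      · have h1 := (W.subgroupOf J).card_map_dvd (QuotientGroup.mk' E)
        rw [e, card_top, Nat.card_congr eJ.toEquiv, card_SL32, hWJ8] at h1
        norm_num at h1
    rw [← eq_of_le_of_card_ge hle (by omega), subgroupOf_map_subtype, inf_eq_left.2 hWJ]
  have hZF : h.Z ≤ centralizer (Q : Set G) := fun z hz =>
      mem_centralizer_iff.2 fun q hq => ((mem_centralizer_iff.1 (hQC hq)) z hz).symm
  have hconjZ : ∀ f ∈ Mz h, ∀ z ∈ h.Z, f * z * f⁻¹ ∈ h.Z := fun f hf z hz =>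
    (mem_normalizer_iff_map_conj_eq.1 hf).le ⟨z, hz, rfl⟩
  have hZE : h.Z = E.map J.subtype := hW h.Z hZF h.cardZ fun f hf => hconjZ f (hFM hf)
  have hNM : normalizer (Q : Set G) ≤ Mz h := by
    intro g hg
    have hgF : ∀ g ∈ normalizer (Q : Set G), ∀ f ∈ centralizer (Q : Set G),
        g * f * g⁻¹ ∈ centralizer (Q : Set G) := by
      intro g hg f hf
      refine mem_centralizer_iff.2 fun q hq => ?_
      have hq' : g⁻¹ * q * g ∈ Q := (mem_set_normalizer_iff''.1 hg q).1 hq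
      have := mem_centralizer_iff.1 hf _ hq'
      calc q * (g * f * g⁻¹) = g * (g⁻¹ * q * g * f) * g⁻¹ := by group
        _ = g * (f * (g⁻¹ * q * g)) * g⁻¹ := by rw [this]
        _ = g * f * g⁻¹ * q := by group
    apply mem_normalizer_iff_map_conj_eq.2
    refine (hW _ ?_ ?_ ?_).trans hZE.symm
    · rintro _ ⟨z, hz, rfl⟩
      exact hgF g hg z (hZF hz)
    · rw [← Nat.card_congr (equivMapOfInjective h.Z _ (MulAut.conj g).injective).toEquiv, h.cardZ]
    · rintro f hf _ ⟨z, hz, rfl⟩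
      refine ⟨g⁻¹ * f * g * z * (g⁻¹ * f * g)⁻¹, ?_, ?_⟩
      · exact hconjZ _ (hFM (by simpa using hgF g⁻¹ (inv_mem hg) f hf)) z hz
      · show g * _ * g⁻¹ = f * (g * z * g⁻¹) * f⁻¹
        group
  have hinf : m.L ⊓ centralizer (Q : Set G) = h.Z := by
    refine (eq_of_le_of_card_ge (le_inf m.Z_le_L hZF) ?_).symm
    have h1 : Nat.card ↥(m.L ⊓ centralizer (Q : Set G)) ∣ 40 :=
      hx40 ▸ card_dvd_of_le (inf_le_inf_right _ m.L_le_Cz)
    have h2 : ¬ 5 ∣ Nat.card ↥(m.L ⊓ centralizer (Q : Set G)) := fun hd =>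
      m.five_not_dvd_L (hd.trans (card_dvd_of_le inf_le_left))
    rw [h.cardZ]
    have h3 : Nat.card ↥(m.L ⊓ centralizer (Q : Set G)) ∈ Nat.divisors 40 :=
      Nat.mem_divisors.2 ⟨h1, by norm_num⟩
    revert h2 h3
    generalize Nat.card ↥(m.L ⊓ centralizer (Q : Set G)) = d
    intro h2 h3
    fin_cases h3 <;> omega
  refine ⟨hF, hFM, hNM, hx40, hinf, ?_, ?_⟩
  · have hC160 : Nat.card ↥(Cz h ⊓ normalizer (Q : Set G)) = 160 := by
      have h1 := card_eq_image_mul (K := normalizer (Q : Set G)) hNM m.phi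
      have h2 : ((normalizer (Q : Set G)).subgroupOf (Mz h)).map m.phi = ⊤ := by
        rw [eq_top_iff, ← himg]
        exact map_mono fun x hx => mem_subgroupOf.2
          (centralizer_le_normalizer _ (mem_subgroupOf.1 hx).1)
      rw [h2, card_top, card_SL32, m.phi_ker_map, inf_comm, hN] at h1
      omega
    have h1 := m.card_img (K := Cz h ⊓ normalizer (Q : Set G)) inf_le_left
    have h2 : Cz h ⊓ normalizer (Q : Set G) ⊓ m.L = h.Z := by
      refine le_antisymm ?_ (le_inf (le_inf Z_le_Cz (hZF.trans (centralizer_le_normalizer _))) m.Z_le_L)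
      rintro x ⟨⟨hxC, hxN⟩, hxL⟩
      rw [← hinf]
      refine ⟨hxL, mem_centralizer_iff.2 fun q hq => ?_⟩
      have hd : m.L ⊓ Q = ⊥ := inf_eq_bot_of_coprime (by
        rw [hQ5]
        exact ((Nat.Prime.coprime_iff_not_dvd (by norm_num)).2 m.five_not_dvd_L).symm)
      have hmem : x * q * x⁻¹ * q⁻¹ ∈ m.L ⊓ Q := by
        refine ⟨?_, mul_mem ((mem_normalizer_iff_map_conj_eq.1 hxN).le ⟨q, hq, rfl⟩) (Q.inv_mem hq)⟩
        have : x * q * x⁻¹ * q⁻¹ = x * (q * x⁻¹ * q⁻¹) := by group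
        rw [this]
        exact mul_mem hxL (m.conj_L (Cz_le_Mz h (hQC hq)) (inv_mem hxL))
      rw [hd, mem_bot] at hmem
      exact (mul_inv_eq_iff_eq_mul.1 (mul_inv_eq_one.1 hmem)).symm
    rw [hC160, h2, h.cardZ] at h1
    omega
  · intro K hK hK168 hbot
    have hKJ : K ≤ J := fun k hk => hcop k (hK hk) 168 (by
      rw [← hK168]; exact congrArg Subtype.val (pow_card_eq_one' (x := (⟨k, hk⟩ : ↥K)))) (by norm_num)
    refine hns (K.subgroupOf J) (isComplement'_of_card_mul_and_disjoint ?_ ?_)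
    · rw [Nat.card_congr (subgroupOfEquivOfLe hKJ).toEquiv, hK168, hE8, hJ168]
    · rw [disjoint_iff, eq_bot_iff]
      rintro x ⟨hxE, hxK⟩
      have hx : (x : G) ∈ K ⊓ h.Z := ⟨hxK, hZE ▸ ⟨x, hxE, rfl⟩⟩
      rw [hbot, mem_bot] at hx
      exact mem_bot.2 (Subtype.ext hx)

end Cfsg.Agent.Lib.J4Pentad77
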