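import Cfsg.Agent.Lib.J4Pentad77.Local
import Cfsg.Agent.Lib.J4Pentad77.Hyp
import Cfsg.Agent.Lib.J4Seven4.Main

/-!
# The pentad two-local subgroup in a group of type J4
-/

set_option autoImplicit false

universe u

namespace Cfsg.Agent.Lib.J4Pentad77

open Cfsg Cfsg.Agent.Lib.J4Type19 Cfsg.Agent.Lib.J4Two56

attribute [local instance] m22_finite

variable {G : Type u} [Group G] [Finite G]

/-- Every subgroup of order seven has the structure found at the ones in the centraliser of the involution. -/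
theorem seven_all {z : G} {P : Subgroup G} (hJ : IsOfJankoFourTypeWith z P)
    (h7 : ∀ S : Subgroup G, Nat.card ↥S = 7 → S ≤ cH z → SevenConcl G S) (T : Subgroup G)
    (hT : Nat.card ↥T = 7) : SevenConcl G T := by
  haveI : Fact (Nat.Prime 7) := ⟨by norm_num⟩
  obtain ⟨x, hx⟩ := exists_prime_orderOf_dvd_card' (G := ↥(cH z)) 7 (by
    rw [J4Fusion14.card_cH hJ]; norm_num)
  have hx' : orderOf (x : G) = 7 := by rw [Subgroup.orderOf_coe]; exact hx
  have hc : Nat.card ↥(Subgroup.zpowers (x : G)) = 7 := by rw [Nat.card_zpowers, hx']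
  have h := h7 (Subgroup.zpowers (x : G)) hc (Subgroup.zpowers_le.2 x.2)
  have key : ∀ S : Subgroup G, Nat.card ↥S = 7 → ∃ Q : Sylow 7 G, (Q : Subgroup G) = S := by
    intro S hS
    obtain ⟨Q, hQ⟩ := (IsPGroup.of_card (n := 1) (by rw [hS, pow_one]) : IsPGroup 7 ↥S).exists_le_sylow
    refine ⟨Q, (Subgroup.eq_of_le_of_card_ge hQ ?_).symm⟩
    obtain ⟨n, hn⟩ := IsPGroup.iff_card.1 Q.2
    have hd := Subgroup.card_subgroup_dvd_card (Q : Subgroup G)
    rw [hn] at hd
    rw [hS, hn]
    rcases Nat.lt_or_ge n 2 with hlt | hge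
    · exact (Nat.pow_le_pow_right (by norm_num) (show n ≤ 1 by omega)).trans (by norm_num)
    · exact absurd ((pow_dvd_pow 7 hge).trans hd) h.1
  obtain ⟨Q, hQ⟩ := key _ hc
  obtain ⟨R, hR⟩ := key T hT
  obtain ⟨g, hg⟩ := MulAction.exists_smul_eq G Q R
  have e : T = (Subgroup.zpowers (x : G)).map (MulAut.conj g).toMonoidHom := by
    rw [← hR, ← hg, ← hQ]
    rfl
  rw [e]
  exact J4Seven4.SevenStructure.conj h g

/-- The pentad two-local subgroup, from the coordinates at the involution and the rows at five and seven. -/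
theorem pentad_concl {z : G} {P : Subgroup G} {D : HData z P} {X : Plus M22t} {L : Lifts D.toJMod X.F}
    (l : Loc D X L) (hP : PlanesStmt.{u}) (S : Split56 G z l.T)
    (h5 : ∀ Q : Subgroup G, Nat.card ↥Q = 5 → Q ≤ cH z → FiveConcl G Q)
    (h7 : ∀ T : Subgroup G, Nat.card ↥T = 7 → T ≤ cH z → SevenConcl G T) : PentadConcl G :=
  concl (pentadHyp l hP (count hP) S h5 (seven_all D.hJ h7))

end Cfsg.Agent.Lib.J4Pentad77
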