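import Cfsg.Agent.Lib.J4Pentad77.CountSpec
import Cfsg.Agent.Lib.J4Two56.CentQD
import Cfsg.Agent.Lib.J4Two56.Classes

/-!
# The elementary subgroups of order `2 ^ 11` through an element of the extraspecial group and the planes
-/

set_option autoImplicit false

universe u

namespace Cfsg.Agent.Lib.J4Pentad77

open Cfsg Cfsg.Agent.Lib.J4Type19 Cfsg.Agent.Lib.J4Two56

attribute [local instance] m22_finite

variable {G : Type u} [Group G] [Finite G] {z : G} {P : Subgroup G} {D : HData z P} {X : Plus M22t}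
  {L : Lifts D.toJMod X.F}

/-- The elementary subgroups of order `2 ^ 11` containing two given elements. -/
def bigAt (x y : G) : Set (Subgroup G) :=
  {B | Cfsg.IsElementaryAbelian 2 B ∧ Nat.card ↥B = 2 ^ 11 ∧ x ∈ B ∧ y ∈ B}

theorem big_sq {B : Subgroup G} (hB : Cfsg.IsElementaryAbelian 2 B) : ∀ b ∈ B, b * b = 1 :=
  fun b hb => by rw [← pow_two]; exact hB.2 b hb

theorem big_comm {B : Subgroup G} (hB : Cfsg.IsElementaryAbelian 2 B) {a b : G} (ha : a ∈ B) (hb : b ∈ B) :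
    a * b = b * a :=
  congrArg Subtype.val (hB.1.is_comm.comm ⟨a, ha⟩ ⟨b, hb⟩)

theorem big_le {B : Subgroup G} (hB : Cfsg.IsElementaryAbelian 2 B) (hz : z ∈ B) : B ≤ cH z :=
  fun _ hb => Subgroup.mem_centralizer_singleton_iff.2 (big_comm hB hb hz)

variable (l : Loc D X L) (hP : PlanesStmt.{u})
include l hP

/-- A plane of a vector on the hyperoval. -/
theorem eq_U0_of_hy {U : Subgroup M22t} (hU : D.toJMod.Good U) (h : l.f.vec 1 ∈ D.toJMod.fix U) : U = X.F.U0 :=
  (hP G z P D X L l.f).1 U hU 1 (by norm_num) one_ne_zero (by decide +kernel) h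

omit hP in
/-- An element carrying a plane to the first one. -/
theorem exists_to_U0 {U : Subgroup M22t} (hU : D.toJMod.Good U) :
    ∃ c : ↥(cC z P), U.map (MulAut.conj (D.π c)).toMonoidHom = X.F.U0 := by
  obtain ⟨g, -, e⟩ := D.toJMod.good_conj L hU (S := U) (IsPGroup.of_card (n := 4) (by rw [hU.1]; norm_num)) le_rfl
  obtain ⟨c, rfl⟩ := D.πsurj g
  exact ⟨c, e⟩

omit hP l in
theorem fix_map (U : Subgroup M22t) (c : ↥(cC z P)) (v : cV z) :
    c • v ∈ D.toJMod.fix (U.map (MulAut.conj (D.π c)).toMonoidHom) ↔ v ∈ D.toJMod.fix U := by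
  constructor
  · intro h
    have := D.toJMod.mem_fix_smul (g := c⁻¹) (U' := U) (fun x hx => by
      show (D.π c⁻¹)⁻¹ * x * D.π c⁻¹ ∈ _
      rw [map_inv, inv_inv]
      exact ⟨x, hx, rfl⟩) h
    rwa [inv_smul_smul] at this
  · intro h
    refine D.toJMod.mem_fix_smul (g := c) ?_ h
    rintro _ ⟨x, hx, rfl⟩
    show (D.π c)⁻¹ * (D.π c * x * (D.π c)⁻¹) * D.π c ∈ U
    simpa [mul_assoc] using hx

theorem fix_injective {U U' : Subgroup M22t} (hU : D.toJMod.Good U) (hU' : D.toJMod.Good U')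
    (h : D.toJMod.fix U = D.toJMod.fix U') : U = U' := by
  obtain ⟨c, hc⟩ := exists_to_U0 l hU
  have hmem : l.f.vec 1 ∈ D.toJMod.fix (U'.map (MulAut.conj (D.π c)).toMonoidHom) := by
    rw [show l.f.vec 1 = c • c⁻¹ • l.f.vec 1 from (smul_inv_smul c _).symm, fix_map, ← h, ← fix_map U c,
      smul_inv_smul, hc]
    exact l.f.vec_mem 1 (by norm_num)
  have e := eq_U0_of_hy l hP (D.toJMod.good_map L hU' c) hmem
  exact Subgroup.map_injective (MulAut.conj (D.π c)).injective (hc.trans e.symm)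

/-- The plane attached to a subgroup: its trace on the extraspecial group. -/
def Belongs (B : Subgroup G) (U : Subgroup M22t) : Prop :=
  D.toJMod.Good U ∧ ∀ e : ↥(cE z), (e : G) ∈ B ↔ mk e ∈ D.toJMod.fix U

omit hP l in
theorem span_trace {U : Subgroup M22t} {e : ↥(cE z)} (h : D.InSpan U (e : G)) : mk e ∈ D.toJMod.fix U := by
  obtain ⟨e', he', c, hcU, h4, he⟩ := h
  have hcE : (c : G) ∈ cE z := by
    have := mul_mem (inv_mem e'.2) e.2
    rwa [he, inv_mul_cancel_left] at this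
  have h1 : D.π c = 1 := by
    apply m22_conj_injective
    rw [D.π_eq, map_one, D.φ_cE hcE]
  rcases D.ker_two h1 (D.ker_four h1 h4) with hc | hc
  · rw [show e = e' from Subtype.ext (by rw [he, hc, mul_one])]; exact he'
  · rw [show e = e' * ⟨z, z_mem D.hJ⟩ from Subtype.ext (by rw [he, hc]; rfl), mk_mul,
      (mk_eq_zero D.hJ (e := ⟨z, z_mem D.hJ⟩)).2 (Or.inr rfl), add_zero]
    exact he'

theorem exists_belongs {B : Subgroup G} (hB : Cfsg.IsElementaryAbelian 2 B) (hc : Nat.card ↥B = 2 ^ 11)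
    (hz : z ∈ B) : ∃ U : Subgroup M22t, Belongs (D := D) B U ∧ ∀ b ∈ B, D.InSpan U b := by
  obtain ⟨U, hU, hin, -, hE⟩ := D.key L (big_le hB hz) (big_sq hB) hc
  have hle : ∀ b ∈ B, D.InSpan U b := fun b hb => D.le_span L (big_le hB hz) (big_sq hB) hU hin hE hb
  exact ⟨U, ⟨hU, fun e => ⟨fun he => span_trace (hle _ he), hE e⟩⟩, hle⟩

omit hP in
theorem z_mem_T : z ∈ l.T.V := (l.T.mem_V z).2 ⟨1, by norm_num, l.T.el_z⟩

omit hP in
theorem z_conj_cC (c : ↥(cC z P)) : (c : G) * z * (c : G)⁻¹ = z := by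
  rw [Subgroup.mem_centralizer_singleton_iff.1 c.2.1, mul_inv_cancel_right]

/-- The subgroup of the first plane belongs to it, and to no other. -/
theorem belongs_U0 : Belongs (D := D) l.T.V X.F.U0 := by
  refine ⟨D.toJMod.good_U0 L, fun e => ⟨fun he => span_trace ((l.mem_B _).1 he), fun he => ?_⟩⟩
  exact (l.mem_B _).2 ⟨e, he, 1, by rw [map_one]; exact one_mem _, one_pow 4, by simp⟩

omit hP l in
theorem belongs_map {B : Subgroup G} {U : Subgroup M22t} (h : Belongs (D := D) B U) (L' : Lifts D.toJMod X.F)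
    (c : ↥(cC z P)) :
    Belongs (D := D) (B.map (MulAut.conj (c : G)).toMonoidHom) (U.map (MulAut.conj (D.π c)).toMonoidHom) := by
  refine ⟨D.toJMod.good_map L' h.1 c, fun e => ?_⟩
  rw [mem_map_conj]
  have he : (c : G)⁻¹ * (e : G) * (c : G) ∈ cE z := D.cE_conj' c.2.1 e.2
  rw [show mk e = c • mk ⟨_, he⟩ by
    rw [smul_mk]; congr 1; exact Subtype.ext (show (e : G) = (c : G) * ((c : G)⁻¹ * e * c) * (c : G)⁻¹ by group),
    fix_map, ← h.2 ⟨_, he⟩]

theorem belongs_unique {B : Subgroup G} {U U' : Subgroup M22t} (h : Belongs (D := D) B U)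
    (h' : Belongs (D := D) B U') : U = U' := by
  refine fix_injective l hP h.1 h'.1 (AddSubgroup.ext fun v => ?_)
  obtain ⟨e, rfl⟩ := mk_surjective v
  rw [← h.2 e, h'.2 e]

/-- A subgroup is determined by its plane. -/
theorem eq_of_belongs {B : Subgroup G} {U : Subgroup M22t} (hB : Cfsg.IsElementaryAbelian 2 B)
    (hc : Nat.card ↥B = 2 ^ 11) (hz : z ∈ B) (h : Belongs (D := D) B U) {c : ↥(cC z P)}
    (hcU : U.map (MulAut.conj (D.π c)).toMonoidHom = X.F.U0) :
    B.map (MulAut.conj (c : G)).toMonoidHom = l.T.V := by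
  have hzB : z ∈ B.map (MulAut.conj (c : G)).toMonoidHom := ⟨z, hz, z_conj_cC l c⟩
  have hB' := isElementary_map hB (c : G)
  have hc' : Nat.card ↥(B.map (MulAut.conj (c : G)).toMonoidHom) = 2 ^ 11 := by
    rw [← Nat.card_congr (Subgroup.equivMapOfInjective B _ (MulAut.conj (c : G)).injective).toEquiv, hc]
  obtain ⟨U', hU', hle⟩ := exists_belongs l hP hB' hc' hzB
  have e : U' = X.F.U0 := belongs_unique l hP hU' (hcU ▸ belongs_map h L c)
  refine Subgroup.eq_of_le_of_card_ge (fun b hb => (l.mem_B b).2 (e ▸ hle b hb)) ?_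
  rw [hc', l.T.card_V]

/-- As many subgroups as planes. -/
theorem card_bigAt (e : ↥(cE z)) : (bigAt z (e : G)).ncard = (planesAt D (mk e)).ncard := by
  classical
  have key : ∀ B ∈ bigAt z (e : G), ∃ U ∈ planesAt D (mk e), Belongs (D := D) B U := by
    rintro B ⟨hB, hc, hz, he⟩
    obtain ⟨U, hU, -⟩ := exists_belongs l hP hB hc hz
    exact ⟨U, ⟨hU.1, (hU.2 e).1 he⟩, hU⟩
  choose f hf hfb using key
  refine Set.ncard_congr f hf (fun B B' hB hB' h => ?_) fun U hU => ?_
  · obtain ⟨c, hc⟩ := exists_to_U0 l (hfb B hB).1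
    have e1 := eq_of_belongs l hP hB.1 hB.2.1 hB.2.2.1 (hfb B hB) hc
    have e2 := eq_of_belongs l hP hB'.1 hB'.2.1 hB'.2.2.1 (hfb B' hB') (c := c) (h ▸ hc)
    exact Subgroup.map_injective (MulAut.conj (c : G)).injective (e1.trans e2.symm)
  · obtain ⟨c, hc⟩ := exists_to_U0 l hU.1
    obtain ⟨B, hB⟩ : ∃ B, B = l.T.V.map (MulAut.conj ((c⁻¹ : ↥(cC z P)) : G)).toMonoidHom := ⟨_, rfl⟩
    have hbel : Belongs (D := D) B U := by
      have h := belongs_map (belongs_U0 l hP) L c⁻¹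
      rw [← hB] at h
      convert h using 1
      rw [← hc, Subgroup.map_map]
      convert (Subgroup.map_id U).symm using 2
      ext x
      simp [map_inv, mul_assoc]
    have hmem : B ∈ bigAt z (e : G) := by
      refine ⟨hB ▸ isElementary_map l.T.isElementary _, ?_, hB ▸ ⟨z, z_mem_T l, z_conj_cC l _⟩,
        (hbel.2 e).2 hU.2⟩
      rw [hB, ← Nat.card_congr (Subgroup.equivMapOfInjective _ _ (MulAut.conj _).injective).toEquiv, l.T.card_V]
    exact ⟨B, hmem, belongs_unique l hP (hfb B hmem) hbel⟩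

end Cfsg.Agent.Lib.J4Pentad77
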