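import Cfsg.Agent.Lib.J4Pentad77.Zsub
import Cfsg.Agent.Lib.J4Fusion14.Rows
import Cfsg.Agent.Lib.S3344.Quotient168

/-!
# The stabiliser of the point in the centraliser of the involution
-/

set_option autoImplicit false

universe u

namespace Cfsg.Agent.Lib.J4Pentad77

open Cfsg Cfsg.Agent.Lib.J4Type19 Cfsg.Agent.Lib.J4Two56

attribute [local instance] m22_finite

variable {G : Type u} [Group G] [Finite G] {z : G} {P : Subgroup G}

/-- The action of the centraliser on the vectors. -/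
@[reducible] noncomputable def hAct : MulAction ↥(cH z) (cV z) where
  smul h v := J4Fusion14.act h v
  one_smul := J4Fusion14.act_one
  mul_smul := J4Fusion14.act_mul

attribute [local instance] hAct

theorem h_smul (h : ↥(cH z)) (v : cV z) : h • v = J4Fusion14.act h v := rfl

omit [Finite G] in
theorem inH_smul (c : ↥(cC z P)) (v : cV z) : (⟨(c : G), c.2.1⟩ : ↥(cH z)) • v = c • v := rfl

variable {D : HData z P} {X : Plus M22t} {L : Lifts D.toJMod X.F} (l : Loc D X L)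
  (hP : PlanesStmt.{u}) (hC : CountStmt.{u})
include l hP hC

theorem orbit_vec5 : MulAction.orbit ↥(cH z) (l.f.vec 5) = MulAction.orbit ↥(cC z P) (l.f.vec 5) := by
  refine Set.Subset.antisymm ?_ ?_
  · rintro _ ⟨h, rfl⟩
    obtain ⟨e', he'⟩ : ∃ e', e' = cEAut (h : G) h.2 (e10 l) := ⟨_, rfl⟩
    have hm : mk e' = h • l.f.vec 5 := by rw [he', ← mk_e10 l, h_smul, J4Fusion14.act_mk]
    have hv : (e' : G) = (h : G) * (e10 l : G) * (h : G)⁻¹ := by rw [he']; rfl
    have hsq : e' * e' = 1 := by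
      have h10 : e10 l * e10 l = 1 := Subtype.ext (l.T.el_sq (a := 10) (by norm_num))
      rw [he', ← map_mul, h10, map_one]
    have hcount : (planesAt D (mk e')).ncard = 5 := by
      rw [← card_bigAt l hP, ← (hC G z P D X L l.f).1, ← mk_e10 l, ← card_bigAt l hP, hv]
      have hzz : ∀ g : G, g ∈ cH z → g * z * g⁻¹ = z := fun g hg => by
        rw [Subgroup.mem_centralizer_singleton_iff.1 hg, mul_inv_cancel_right]
      have hset : bigAt z ((h : G) * (e10 l : G) * (h : G)⁻¹) =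
          (fun B : Subgroup G => B.map (MulAut.conj (h : G)).toMonoidHom) '' bigAt z (e10 l : G) := by
        ext B
        constructor
        · rintro ⟨hB, hc, hz, he⟩
          refine ⟨B.map (MulAut.conj (h : G)⁻¹).toMonoidHom, ⟨isElementary_map hB _, ?_, ?_, ?_⟩, ?_⟩
          · rw [← Nat.card_congr (Subgroup.equivMapOfInjective B _ (MulAut.conj (h : G)⁻¹).injective).toEquiv, hc]
          · exact ⟨z, hz, hzz _ (inv_mem h.2)⟩
          · exact ⟨_, he, by simp [mul_assoc]⟩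
          · show Subgroup.map _ (Subgroup.map _ B) = B
            rw [Subgroup.map_map]
            convert Subgroup.map_id B using 2
            ext x
            simp [mul_assoc]
        · rintro ⟨B', ⟨hB, hc, hz, he⟩, rfl⟩
          refine ⟨isElementary_map hB _, ?_, ⟨z, hz, hzz _ h.2⟩, ⟨_, he, by simp⟩⟩
          rw [← Nat.card_congr (Subgroup.equivMapOfInjective B' _ (MulAut.conj (h : G)).injective).toEquiv, hc]
      rw [hset]
      exact Set.ncard_image_of_injective _ (Subgroup.map_injective (MulAut.conj (h : G)).injective)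
    obtain ⟨c, hc⟩ := (hC G z P D X L l.f).2.1 e' hsq hcount
    exact ⟨c, hc.trans hm⟩
  · rintro _ ⟨c, rfl⟩
    exact ⟨⟨(c : G), c.2.1⟩, inH_smul c _⟩

theorem card_stab : 693 * Nat.card ↥(MulAction.stabilizer ↥(cH z) (l.f.vec 5)) = 2 ^ 13 * 3 * 887040 := by
  have h := (MulAction.stabilizer ↥(cH z) (l.f.vec 5)).card_mul_index
  rw [MulAction.index_stabilizer, orbit_vec5 l hP hC, (hC G z P D X L l.f).2.2,
    J4Fusion14.card_cH D.hJ] at h
  rw [mul_comm]
  exact h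

omit hP hC

theorem act_ne_zero (h : ↥(cH z)) : h • l.f.vec 5 ≠ 0 := by
  intro e
  refine vec5_ne l ?_
  rw [h_smul] at e
  rw [← J4Fusion14.act_inv_act h (l.f.vec 5), e, map_zero]

/-- Maps of the point into itself normalise the subgroup over it. -/
theorem mem_norm_of_act {h : ↥(cH z)} (h5 : h • l.f.vec 5 ∈ ptSub l) (h10 : h • l.f.vec 10 ∈ ptSub l) :
    (h : G) ∈ Subgroup.normalizer (zsub l : Set G) := by
  rw [Subgroup.mem_normalizer_iff_map_conj_eq]
  refine Subgroup.eq_of_le_of_card_ge ?_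
    (Nat.card_congr (Subgroup.equivMapOfInjective _ _ (MulAut.conj (h : G)).injective).toEquiv).le
  rintro _ ⟨y, hy, rfl⟩
  have hyE := zsub_le_cE l hy
  show (h : G) * y * (h : G)⁻¹ ∈ zsub l
  refine (mem_zsub_iff l (cEAut (h : G) h.2 ⟨y, hyE⟩)).2 ?_
  rw [← J4Fusion14.act_mk]
  obtain ⟨k, hk, e⟩ := (mem_zsub_iff l ⟨y, hyE⟩).1 hy
  rw [← e]
  simp only [List.mem_cons, List.not_mem_nil, or_false] at hk
  rcases hk with rfl | rfl | rfl | rfl
  · rw [vec_zero' l, map_zero]; exact zero_mem _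
  · exact h5
  · exact h10
  · rw [show (15 : ℕ) = 5 ^^^ 10 from rfl, l.f.vec_xor 5 (by norm_num) 10 (by norm_num), map_add]
    exact add_mem h5 h10

theorem act_of_norm {h : ↥(cH z)} (hn : (h : G) ∈ Subgroup.normalizer (zsub l : Set G)) :
    h • l.f.vec 5 ∈ ptSub l := by
  rw [← mk_e10 l, h_smul, J4Fusion14.act_mk, ← mem_zsub_iff]
  exact (Subgroup.mem_normalizer_iff.1 hn _).1 (el_mem_zsub l (n := 10) (by simp [zCodes]))

/-- The stabiliser of the point in the centraliser. -/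
def normH : Subgroup ↥(cH z) := (Subgroup.normalizer (zsub l : Set G)).subgroupOf (cH z)

theorem stab_le_normH : MulAction.stabilizer ↥(cH z) (l.f.vec 5) ≤ normH l := by
  intro h hh
  rw [MulAction.mem_stabilizer_iff] at hh
  refine mem_norm_of_act l (by rw [hh]; exact ⟨5, by simp, rfl⟩) ?_
  obtain ⟨g, hg⟩ : ∃ g : ↥(cH z), g = h * ⟨D.p ^ L.e, pow_mem D.pH _⟩ * h⁻¹ := ⟨_, rfl⟩
  have e1 : h • l.f.vec 10 = g • l.f.vec 5 := by
    rw [← (w_vec l).1, show D.toJMod.ω ^ L.e • l.f.vec 5 =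
      (⟨D.p ^ L.e, pow_mem D.pH _⟩ : ↥(cH z)) • l.f.vec 5 from
      (inH_smul (D.toJMod.ω ^ L.e) (l.f.vec 5)).symm, ← mul_smul, hg, mul_smul _ h⁻¹,
      show h⁻¹ • l.f.vec 5 = l.f.vec 5 from inv_smul_eq_iff.2 hh.symm]
  rw [e1]
  have hφ : D.φ g = 1 := by
    have hp : D.φ ⟨D.p ^ L.e, pow_mem D.pH _⟩ = 1 := by
      rw [show (⟨D.p ^ L.e, pow_mem D.pH _⟩ : ↥(cH z)) = ⟨D.p, D.pH⟩ ^ L.e from Subtype.ext rfl, map_pow,
        (D.φ_eq ⟨D.p, D.pH⟩).2 ⟨1, one_mem _, D.p, D.p_mem, (one_mul _).symm⟩, one_pow]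
    rw [hg, map_mul, map_mul, hp, mul_one, ← map_mul, mul_inv_cancel, map_one]
  obtain ⟨e, he, q, hq, hge⟩ := (D.φ_eq g).1 hφ
  obtain ⟨j, rfl⟩ : ∃ j : ℕ, q = D.p ^ j := by
    rcases (D.mem_P q).1 hq with rfl | rfl | rfl
    exacts [⟨0, by simp⟩, ⟨1, by simp⟩, ⟨2, by rw [pow_two]⟩]
  rw [show g = ⟨e, cE_le z he⟩ * ⟨D.p ^ j, pow_mem D.pH _⟩ from Subtype.ext hge, mul_smul, h_smul ⟨e, _⟩,
    J4Fusion14.act_cE he D.hJ, show (⟨D.p ^ j, pow_mem D.pH _⟩ : ↥(cH z)) • l.f.vec 5 =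
      D.toJMod.ω ^ j • l.f.vec 5 from inH_smul (D.toJMod.ω ^ j) (l.f.vec 5)]
  exact (ω_vec l j).1

theorem card_normH_stab : Nat.card ↥(normH l) = 3 * Nat.card ↥(MulAction.stabilizer ↥(cH z) (l.f.vec 5)) := by
  have hidx : ((MulAction.stabilizer ↥(cH z) (l.f.vec 5)).subgroupOf (normH l)).index = 3 := by
    rw [show (MulAction.stabilizer ↥(cH z) (l.f.vec 5)).subgroupOf (normH l) =
      MulAction.stabilizer ↥(normH l) (l.f.vec 5) from Subgroup.ext fun _ => Iff.rfl,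
      MulAction.index_stabilizer]
    rw [show MulAction.orbit ↥(normH l) (l.f.vec 5) = {l.f.vec 5, l.f.vec 10, l.f.vec 15} from ?_]
    · refine Set.ncard_eq_three.2 ⟨_, _, _, ?_, ?_, ?_, rfl⟩ <;>
        exact fun e => absurd (l.f.vec_inj _ (by norm_num) _ (by norm_num) e) (by norm_num)
    refine Set.Subset.antisymm ?_ ?_
    · rintro _ ⟨h, rfl⟩
      obtain ⟨k, hk, e⟩ := act_of_norm l (h := (h : ↥(cH z))) h.2
      simp only [List.mem_cons, List.not_mem_nil, or_false] at hk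
      rcases hk with rfl | rfl | rfl | rfl
      · exact absurd (e.symm.trans (vec_zero' l)) (act_ne_zero l (h : ↥(cH z)))
      · exact Or.inl e.symm
      · exact Or.inr (Or.inl e.symm)
      · exact Or.inr (Or.inr e.symm)
    · have hp : ∀ j : ℕ, (⟨D.p ^ j, pow_mem D.pH _⟩ : ↥(cH z)) ∈ normH l := fun j =>
        mem_norm_of_act l (h := ⟨D.p ^ j, pow_mem D.pH _⟩)
          (by rw [show (⟨D.p ^ j, pow_mem D.pH _⟩ : ↥(cH z)) • l.f.vec 5 = D.toJMod.ω ^ j • l.f.vec 5 from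
            inH_smul (D.toJMod.ω ^ j) _]; exact (ω_vec l j).1)
          (by rw [show (⟨D.p ^ j, pow_mem D.pH _⟩ : ↥(cH z)) • l.f.vec 10 = D.toJMod.ω ^ j • l.f.vec 10 from
            inH_smul (D.toJMod.ω ^ j) _]; exact (ω_vec l j).2)
      rintro v (rfl | rfl | rfl)
      · exact ⟨1, one_smul _ _⟩
      · refine ⟨⟨_, hp L.e⟩, ?_⟩
        show (⟨D.p ^ L.e, pow_mem D.pH _⟩ : ↥(cH z)) • l.f.vec 5 = _
        exact (inH_smul (D.toJMod.ω ^ L.e) _).trans (w_vec l).1
      · refine ⟨⟨_, hp (L.e + L.e)⟩, ?_⟩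
        show (⟨D.p ^ (L.e + L.e), pow_mem D.pH _⟩ : ↥(cH z)) • l.f.vec 5 = _
        refine (inH_smul (D.toJMod.ω ^ (L.e + L.e)) _).trans ?_
        rw [pow_add, mul_smul, (w_vec l).1, (w_vec l).2]
  have h := ((MulAction.stabilizer ↥(cH z) (l.f.vec 5)).subgroupOf (normH l)).card_mul_index
  rw [hidx, Nat.card_congr (Subgroup.subgroupOfEquivOfLe (stab_le_normH l)).toEquiv] at h
  rw [← h, mul_comm]

include hP hC

theorem card_normH : Nat.card ↥(normH l) = 2 ^ 13 * 11520 := by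
  have h1 := card_stab l hP hC
  have h2 := card_normH_stab l
  have : 693 * Nat.card ↥(normH l) = 693 * (2 ^ 13 * 11520) := by rw [h2]; omega
  exact Nat.eq_of_mul_eq_mul_left (by norm_num) this

end Cfsg.Agent.Lib.J4Pentad77
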