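import Cfsg.Agent.Lib.J4Pentad77.Planes
import Cfsg.Agent.Lib.J4Pentad77.Cert
import Cfsg.Agent.Lib.J4Fusion14.Defs

/-!
# The subgroup of order eight over the chosen point
-/

set_option autoImplicit false

universe u

namespace Cfsg.Agent.Lib.J4Pentad77

open Cfsg Cfsg.Agent.Lib.J4Type19 Cfsg.Agent.Lib.J4Two56

attribute [local instance] m22_finite

variable {G : Type u} [Group G] [Finite G] {z : G} {P : Subgroup G} {D : HData z P} {X : Plus M22t}
  {L : Lifts D.toJMod X.F} (l : Loc D X L)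
include l

theorem el_low {n : ℕ} (hn : n < 128) :
    ∃ h : l.T.el n ∈ cE z, mk (⟨l.T.el n, h⟩ : ↥(cE z)) = l.f.vec (n / 2 % 64) := by
  have he : l.T.el n = z ^ (n % 2) * (secV D (l.f.vec (n / 2 % 64)) : G) := by
    rw [l.el_eq n (by omega), Nat.div_eq_of_lt hn, l.x_zero]
    show _ * _ * (((1 : ↥(cC z P)) : G) * z ^ epsW 0) = _
    simp [epsW]
  have hm : l.T.el n ∈ cE z := he ▸ mul_mem (pow_mem (z_mem D.hJ) _) (secV D _).2
  refine ⟨hm, ?_⟩
  have hz : mk (⟨z, z_mem D.hJ⟩ : ↥(cE z)) = 0 := (mk_eq_zero D.hJ).2 (Or.inr rfl)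
  rw [show (⟨l.T.el n, hm⟩ : ↥(cE z)) = ⟨z, z_mem D.hJ⟩ ^ (n % 2) * secV D (l.f.vec (n / 2 % 64)) from
    Subtype.ext he, mk_mul, mk_secV]
  rcases Nat.mod_two_eq_zero_or_one n with h | h <;> rw [h]
  · rw [pow_zero, mk_one, zero_add]
  · rw [pow_one, hz, zero_add]

theorem vec_zero' : l.f.vec 0 = 0 := by
  have h := l.f.vec_xor 0 (by norm_num) 0 (by norm_num)
  rwa [Nat.xor_self, cV_two D.hJ] at h

/-- The subgroup over the point. -/
def zsub : Subgroup G where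
  carrier := {y | ∃ n ∈ zCodes, l.T.el n = y}
  one_mem' := ⟨0, by simp [zCodes], l.T.el_zero⟩
  mul_mem' := by
    rintro a b ⟨m, hm, rfl⟩ ⟨n, hn, rfl⟩
    exact ⟨m ^^^ n, zCodes_xor hm hn,
      l.T.el_xor m ((zCodes_lt hm).trans (by norm_num)) n ((zCodes_lt hn).trans (by norm_num))⟩
  inv_mem' := by
    rintro a ⟨m, hm, rfl⟩
    exact ⟨m, hm, (l.T.el_inv ((zCodes_lt hm).trans (by norm_num))).symm⟩

theorem el_mem_zsub {n : ℕ} (hn : n ∈ zCodes) : l.T.el n ∈ zsub l := ⟨n, hn, rfl⟩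

theorem zsub_le_V : zsub l ≤ l.T.V := by
  rintro _ ⟨n, hn, rfl⟩
  exact l.T.el_mem ((zCodes_lt hn).trans (by norm_num))

theorem zsub_le_cE : zsub l ≤ cE z := by
  rintro _ ⟨n, hn, rfl⟩
  exact (el_low l (zCodes_lt hn)).1

theorem z_mem_zsub : z ∈ zsub l := ⟨1, by simp [zCodes], l.T.el_z⟩

theorem zsub_elem : Cfsg.IsElementaryAbelian 2 (zsub l) := by
  refine ⟨⟨⟨fun a b => Subtype.ext ?_⟩⟩, fun a ha => ?_⟩
  · exact big_comm l.T.isElementary (zsub_le_V l a.2) (zsub_le_V l b.2)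
  · exact l.T.isElementary.2 a (zsub_le_V l ha)

theorem card_zsub : Nat.card ↥(zsub l) = 8 := by
  have hlt : ∀ i : Fin 8, zCodes.getD i.val 0 ∈ zCodes := by decide +kernel
  have hinj : ∀ i j : Fin 8, zCodes.getD i.val 0 = zCodes.getD j.val 0 → i = j := by decide +kernel
  have hsur : ∀ n ∈ zCodes, ∃ i : Fin 8, zCodes.getD i.val 0 = n := by decide +kernel
  let f : Fin 8 → ↥(zsub l) := fun i => ⟨_, el_mem_zsub l (hlt i)⟩
  have hf : Function.Bijective f := by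
    refine ⟨fun i j h => hinj i j ?_, fun ⟨y, n, hn, e⟩ => ?_⟩
    · exact l.T.el_inj _ ((zCodes_lt (hlt i)).trans (by norm_num)) _ ((zCodes_lt (hlt j)).trans (by norm_num))
        (congrArg Subtype.val h)
    · obtain ⟨i, hi⟩ := hsur n hn
      exact ⟨i, Subtype.ext (by show l.T.el (zCodes.getD i.val 0) = y; rw [hi, e])⟩
  rw [← Nat.card_eq_of_bijective f hf, Nat.card_eq_fintype_card, Fintype.card_fin]

/-- The four vectors of the point. -/
def ptSub : AddSubgroup (cV z) where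
  carrier := {v | ∃ k ∈ [0, 5, 10, 15], l.f.vec k = v}
  zero_mem' := ⟨0, by simp, vec_zero' l⟩
  add_mem' := by
    rintro u v ⟨a, ha, rfl⟩ ⟨b, hb, rfl⟩
    have h : ∀ a ∈ [0, 5, 10, 15], ∀ b ∈ [0, 5, 10, 15], a < 64 ∧ b < 64 ∧ a ^^^ b ∈ [0, 5, 10, 15] := by
      decide +kernel
    obtain ⟨h1, h2, h3⟩ := h a ha b hb
    exact ⟨a ^^^ b, h3, l.f.vec_xor a h1 b h2⟩
  neg_mem' := by
    rintro v ⟨a, ha, rfl⟩
    exact ⟨a, ha, (D.toJMod.neg_eq _).symm⟩

theorem mem_zsub_iff (e : ↥(cE z)) : (e : G) ∈ zsub l ↔ mk e ∈ ptSub l := by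
  constructor
  · rintro ⟨n, hn, he⟩
    obtain ⟨h, hm⟩ := el_low l (zCodes_lt hn)
    have hk : ∀ n ∈ zCodes, n / 2 % 64 ∈ [0, 5, 10, 15] := by decide +kernel
    exact ⟨_, hk n hn, by rw [← hm]; congr 1; exact Subtype.ext he⟩
  · rintro ⟨k, hk, he⟩
    have hc : ∀ k ∈ [0, 5, 10, 15], 2 * k ∈ zCodes ∧ (2 * k) / 2 % 64 = k := by decide +kernel
    obtain ⟨hz, hkk⟩ := hc k hk
    obtain ⟨h, hm⟩ := el_low l (zCodes_lt hz)
    rw [hkk, he] at hm
    rcases (mk_eq D.hJ).1 hm with e' | e'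
    · rw [e']; exact el_mem_zsub l hz
    · rw [e']; exact mul_mem (el_mem_zsub l hz) (z_mem_zsub l)

theorem w_vec : D.toJMod.ω ^ L.e • l.f.vec 5 = l.f.vec 10 ∧ D.toJMod.ω ^ L.e • l.f.vec 10 = l.f.vec 15 := by
  have h : sc 2 5 = 10 ∧ sc 2 10 = 15 := by decide +kernel
  rw [l.f.vec_w 5 (by norm_num), l.f.vec_w 10 (by norm_num), h.1, h.2]
  exact ⟨rfl, rfl⟩

theorem ω_vec (j : ℕ) : D.toJMod.ω ^ j • l.f.vec 5 ∈ ptSub l ∧ D.toJMod.ω ^ j • l.f.vec 10 ∈ ptSub l := by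
  have h5 : l.f.vec 5 ∈ ptSub l := ⟨5, by simp, rfl⟩
  have h10 : l.f.vec 10 ∈ ptSub l := ⟨10, by simp, rfl⟩
  have h15 : l.f.vec 15 ∈ ptSub l := ⟨15, by simp, rfl⟩
  have hstep : ∀ v ∈ ptSub l, D.toJMod.ω ^ L.e • v ∈ ptSub l := by
    rintro v ⟨k, hk, rfl⟩
    have h : ∀ k ∈ [0, 5, 10, 15], k < 64 ∧ sc 2 k ∈ [0, 5, 10, 15] := by decide +kernel
    rw [l.f.vec_w k (h k hk).1]
    exact ⟨_, (h k hk).2, rfl⟩
  obtain ⟨i, hi⟩ : ∃ i, L.e * i % 3 = j % 3 := by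
    rcases (by have := L.e_ne; omega : L.e % 3 = 1 ∨ L.e % 3 = 2) with e | e
    · exact ⟨j, by rw [Nat.mul_mod, e, one_mul, Nat.mod_mod]⟩
    · exact ⟨2 * j, by rw [Nat.mul_mod, e]; omega⟩
  have hall : ∀ i, ∀ v ∈ ptSub l, D.toJMod.ω ^ (L.e * i) • v ∈ ptSub l := by
    intro i
    induction i with
    | zero => intro v hv; rwa [mul_zero, pow_zero, one_smul]
    | succ i ih => intro v hv; rw [Nat.mul_succ, pow_add, mul_smul]; exact ih _ (hstep v hv)
  constructor <;> rw [← D.toJMod.ωpow_congr hi]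
  exacts [hall i _ h5, hall i _ h10]

theorem vec5_ne : l.f.vec 5 ≠ 0 := by
  intro h
  have := l.f.vec_inj 5 (by norm_num) 0 (by norm_num) (h.trans (vec_zero' l).symm)
  omega

/-- The element over the chosen vector. -/
noncomputable def e10 : ↥(cE z) := ⟨l.T.el 10, (el_low l (n := 10) (by norm_num)).1⟩

theorem mk_e10 : mk (e10 l) = l.f.vec 5 := (el_low l (n := 10) (by norm_num)).2

/-- The elementary subgroups of order `2 ^ 11` over the point. -/
def fives : Set (Subgroup G) :=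
  {B | Cfsg.IsElementaryAbelian 2 B ∧ Nat.card ↥B = 2 ^ 11 ∧ zsub l ≤ B}

variable (hP : PlanesStmt.{u})
include hP

theorem mem_fives_iff (B : Subgroup G) : B ∈ fives l ↔ B ∈ bigAt z ((e10 l : ↥(cE z)) : G) := by
  constructor
  · rintro ⟨hB, hc, hle⟩
    exact ⟨hB, hc, hle (z_mem_zsub l), hle (el_mem_zsub l (n := 10) (by simp [zCodes]))⟩
  · rintro ⟨hB, hc, hz, he⟩
    refine ⟨hB, hc, fun y hy => ?_⟩
    obtain ⟨U, hU, -⟩ := exists_belongs l hP hB hc hz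
    have h5 : l.f.vec 5 ∈ D.toJMod.fix U := mk_e10 l ▸ (hU.2 _).1 he
    have hall : ∀ v ∈ ptSub l, v ∈ D.toJMod.fix U := by
      have h10 : l.f.vec 10 ∈ D.toJMod.fix U := by
        rw [← (w_vec l).1]
        have : ∀ j, ∀ v ∈ D.toJMod.fix U, D.toJMod.ω ^ j • v ∈ D.toJMod.fix U := by
          intro j
          induction j with
          | zero => intro v hv; rwa [pow_zero, one_smul]
          | succ j ih => intro v hv; rw [pow_succ, mul_smul]; exact ih _ (D.toJMod.ω_mem_fix hv)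
        exact this _ _ h5
      rintro v ⟨k, hk, rfl⟩
      simp only [List.mem_cons, List.not_mem_nil, or_false] at hk
      rcases hk with rfl | rfl | rfl | rfl
      · rw [vec_zero' l]; exact zero_mem _
      · exact h5
      · exact h10
      · rw [show (15 : ℕ) = 5 ^^^ 10 from rfl, l.f.vec_xor 5 (by norm_num) 10 (by norm_num)]
        exact add_mem h5 h10
    exact (hU.2 ⟨y, zsub_le_cE l hy⟩).2 (hall _ ((mem_zsub_iff l ⟨y, zsub_le_cE l hy⟩).1 hy))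

theorem card_fives (hC : CountStmt.{u}) : (fives l).ncard = 5 := by
  rw [show fives l = bigAt z ((e10 l : ↥(cE z)) : G) from Set.ext (mem_fives_iff l hP), card_bigAt l hP,
    mk_e10]
  exact (hC G z P D X L l.f).1

end Cfsg.Agent.Lib.J4Pentad77
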